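import Cfsg.Agent.Lib.CosetEnum.LyRep.Out.LySide
import Cfsg.Prelude.Def_KGroupFacts

/-!
Every automorphism of the presented Lyons group is inner: after an inner automorphism it fixes a Sylow
5-subgroup of the image of `P`, a torus, then the root elements, the image of `P` and `z`.
-/

set_option autoImplicit false
set_option maxRecDepth 100000
set_option Elab.async false

namespace Cfsg.Agent.Lib.CosetEnum.LyRep.Out

open Cfsg.Spor Cfsg.Agent.Lib.CosetEnum Cfsg.Agent.Lib.CosetEnum.LyP Cfsg.Agent.Lib.CosetEnum.LyP.Dce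
open Cfsg.Agent.Lib.ExactCover

/-- The torus. -/
noncomputable abbrev Tt : Subgroup P := genGroup [tW, uW2]

/-- The automorphism maps the image of the subgroup into itself. -/
def Pins (φ : MulAut Ly) (H : Subgroup P) : Prop := ∀ h ∈ H, ∃ h' ∈ H, φ (toLy h) = toLy h'

theorem pins_surj {φ : MulAut Ly} {H : Subgroup P} (hp : Pins φ H) {h' : P} (hh : h' ∈ H) :
    ∃ h ∈ H, φ (toLy h) = toLy h' := by
  haveI := finite
  choose f hf using fun h : H => hp h.1 h.2
  let F : H → H := fun h => ⟨f h, (hf h).1⟩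
  have hinj : Function.Injective F := fun a b e => by
    have e' : f a = f b := congrArg Subtype.val e
    exact Subtype.ext (toLy_injective (φ.injective (by rw [(hf a).2, (hf b).2, e'])))
  obtain ⟨h, he⟩ := Finite.injective_iff_surjective.1 hinj ⟨h', hh⟩
  exact ⟨h.1, h.2, by rw [(hf h).2]; exact congrArg toLy (congrArg Subtype.val he)⟩

theorem pins_conj {φ : MulAut Ly} {H : Subgroup P} {b : P} (hp : Pins φ H)
    (hb : ∀ v ∈ H, b * v * b⁻¹ ∈ H) : Pins (MulAut.conj (toLy b) * φ) H := by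
  intro h hh
  obtain ⟨h', hh', e⟩ := hp h hh
  exact ⟨b * h' * b⁻¹, hb h' hh', by
    rw [MulAut.mul_apply, e, MulAut.conj_apply, map_mul, map_mul, map_inv]⟩

theorem fact_5 : (51765179004000000 : ℕ).factorization 5 = 6 := by
  have h5 : Nat.Prime 5 := by norm_num
  have a1 := (h5.pow_dvd_iff_le_factorization (k := 6) (n := 51765179004000000) (by norm_num)).1 (by norm_num)
  have a2 : ¬ 7 ≤ (51765179004000000 : ℕ).factorization 5 := fun hh =>
    absurd ((h5.pow_dvd_iff_le_factorization (by norm_num)).2 hh) (by norm_num)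
  omega

theorem fact_2 : (250000 : ℕ).factorization 2 = 4 := by
  have h2 : Nat.Prime 2 := Nat.prime_two
  have a1 := (h2.pow_dvd_iff_le_factorization (k := 4) (n := 250000) (by norm_num)).1 (by norm_num)
  have a2 : ¬ 5 ≤ (250000 : ℕ).factorization 2 := fun hh =>
    absurd ((h2.pow_dvd_iff_le_factorization (by norm_num)).2 hh) (by norm_num)
  omega

theorem exists_pins_S (φ : MulAut Ly) :
    ∃ g : Ly, Pins (MulAut.conj g * φ) S ∧ Pins (MulAut.conj g * φ) B0 := by
  haveI : Fact (Nat.Prime 5) := ⟨by norm_num⟩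
  have hc : Nat.card (S.map toLy) = 5 ^ (Nat.card Ly).factorization 5 := by
    rw [Subgroup.card_map_of_injective toLy_injective, card_S, card_ly, fact_5]; norm_num
  have hc' : Nat.card ((S.map toLy).map φ.toMonoidHom) = 5 ^ (Nat.card Ly).factorization 5 := by
    rw [Subgroup.card_map_of_injective (MulEquiv.injective φ), hc]
  obtain ⟨g, hg⟩ := MulAction.exists_smul_eq Ly (Sylow.ofCard _ hc') (Sylow.ofCard _ hc)
  have hS : Pins (MulAut.conj g * φ) S := by
    intro h hh
    have hm : φ (toLy h) ∈ (S.map toLy).map φ.toMonoidHom :=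
      Subgroup.mem_map_of_mem _ (Subgroup.mem_map_of_mem _ hh)
    have h1 := Subgroup.smul_mem_pointwise_smul _ (MulAut.conj g) _ hm
    have h2 : MulAut.conj g • φ (toLy h) ∈ S.map toLy := by
      have e := congrArg (fun Q : Sylow 5 Ly => (Q : Subgroup Ly)) hg
      simp only [Sylow.coe_subgroup_smul, Sylow.coe_ofCard] at e
      rw [← e]; exact h1
    obtain ⟨h', hh', e'⟩ := h2
    exact ⟨h', hh', e'.symm⟩
  refine ⟨g, hS, fun b hb => ?_⟩
  set ψ := MulAut.conj g * φ
  obtain ⟨b', hb', e⟩ := norm_S_ly (g := ψ (toLy b)) fun v hv => by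
    obtain ⟨u, hu, rfl'⟩ := pins_surj hS hv
    have hu' : b⁻¹ * u * b ∈ S := by simpa using (B0_norm (inv_mem hb)).1 hu
    obtain ⟨w, hw, hwe⟩ := hS _ hu'
    exact ⟨w, hw, by rw [← rfl', ← hwe]; simp only [map_mul, map_inv]⟩
  exact ⟨b', hb', e⟩

theorem Tt_elt {x : P} (hx : x ∈ Tt) : ∃ i < 4, ∃ j < 4, x = te i j := by
  haveI := finite
  suffices h : ∃ i j, x = te i j by
    obtain ⟨i, j, rfl⟩ := h
    exact ⟨_, Nat.mod_lt i (by norm_num), _, Nat.mod_lt j (by norm_num), te_mod i j⟩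
  refine closure_induction_mul (p := fun x => ∃ i j, x = te i j) ?_ ⟨0, 0, by simp [te_eq]⟩ ?_ hx
  · rintro _ ⟨w, hw, rfl⟩
    simp only [List.mem_cons, List.not_mem_nil, or_false] at hw
    rcases hw with rfl | rfl
    · exact ⟨1, 0, by simp [te_eq]⟩
    · exact ⟨0, 1, by simp [te_eq]⟩
  · rintro _ _ ⟨i, j, rfl⟩ ⟨k, l, rfl⟩
    exact ⟨_, _, te_mul i j k l⟩

theorem card_Tt : Nat.card Tt = 16 := by
  haveI := finite
  let F : Fin 4 × Fin 4 → Tt := fun p => ⟨te p.1 p.2, te_mem_tu _ _⟩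
  have hb : Function.Bijective F := by
    constructor
    · rintro ⟨i, j⟩ ⟨k, l⟩ e
      obtain ⟨h1, h2⟩ := te_inj i.2 j.2 k.2 l.2 (congrArg Subtype.val e)
      rw [Fin.ext h1, Fin.ext h2]
    · rintro ⟨x, hx⟩
      obtain ⟨i, hi, j, hj, rfl⟩ := Tt_elt hx
      exact ⟨⟨⟨i, hi⟩, ⟨j, hj⟩⟩, rfl⟩
  rw [← Nat.card_eq_of_bijective F hb, Nat.card_prod, Nat.card_fin]

theorem Tt_le : Tt ≤ B0 := Subgroup.closure_mono fun x ⟨w, hw, e⟩ => ⟨w, List.mem_append_right _ hw, e⟩

theorem exists_pins_T (φ : MulAut Ly) : ∃ g : Ly, Pins (MulAut.conj g * φ) S ∧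
    Pins (MulAut.conj g * φ) B0 ∧ Pins (MulAut.conj g * φ) Tt := by
  haveI := finite
  haveI : Fact (Nat.Prime 2) := ⟨Nat.prime_two⟩
  obtain ⟨g, hS, hB⟩ := exists_pins_S φ
  set ψ := MulAut.conj g * φ
  choose f hf using fun b : B0 => hB b.1 b.2
  let fB : B0 →* B0 :=
    MonoidHom.mk' (fun b => ⟨f b, (hf b).1⟩) fun a b => Subtype.ext (toLy_injective (by
      show toLy (f (a * b)) = toLy (f a * f b)
      rw [← (hf (a * b)).2, map_mul, ← (hf a).2, ← (hf b).2, ← map_mul, Subgroup.coe_mul, map_mul]))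
  have hinj : Function.Injective fB := fun a b e => Subtype.ext (toLy_injective (ψ.injective (by
    rw [(hf a).2, (hf b).2]; exact congrArg toLy (congrArg Subtype.val e))))
  have h0 : Nat.card (Tt.subgroupOf B0) = 16 := by
    rw [Nat.card_congr (Subgroup.subgroupOfEquivOfLe Tt_le).toEquiv, card_Tt]
  have hc : Nat.card (Tt.subgroupOf B0) = 2 ^ (Nat.card B0).factorization 2 := by
    rw [h0, card_B0, fact_2]; norm_num
  have hc' : Nat.card ((Tt.subgroupOf B0).map fB) = 2 ^ (Nat.card B0).factorization 2 := by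
    rw [Subgroup.card_map_of_injective hinj, hc]
  obtain ⟨b, hb⟩ := MulAction.exists_smul_eq B0 (Sylow.ofCard _ hc') (Sylow.ofCard _ hc)
  refine ⟨toLy b * g, ?_, ?_, ?_⟩
  all_goals rw [map_mul, mul_assoc]
  · exact pins_conj hS fun v hv => (B0_norm b.2).1 hv
  · exact pins_conj hB fun v hv => mul_mem (mul_mem b.2 hv) (inv_mem b.2)
  · intro t ht
    have hm : fB ⟨t, Tt_le ht⟩ ∈ (Tt.subgroupOf B0).map fB :=
      Subgroup.mem_map_of_mem _ (Subgroup.mem_subgroupOf.2 ht)
    have h1 := Subgroup.smul_mem_pointwise_smul _ (MulAut.conj b) _ hm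
    have h2 : MulAut.conj b • fB ⟨t, Tt_le ht⟩ ∈ Tt.subgroupOf B0 := by
      have e := congrArg (fun Q : Sylow 2 B0 => (Q : Subgroup B0)) hb
      simp only [Sylow.coe_subgroup_smul, Sylow.coe_ofCard] at e
      rw [← e]; exact h1
    rw [Subgroup.mem_subgroupOf] at h2
    refine ⟨_, h2, ?_⟩
    rw [MulAut.mul_apply, MulAut.conj_apply, (hf ⟨t, Tt_le ht⟩).2]
    simp [MulAut.smul_def, fB, map_mul]

theorem pair_word {M : Subgroup P} {gens : List (List ℕ)} {i0 : ℕ}
    (hM : ∀ v ∈ M, val (gens.getD i0 []) * v * (val (gens.getD i0 []))⁻¹ ∈ M)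
    (hoth : ∀ k < gens.length, k ≠ i0 → val (gens.getD k []) ∈ M) :
    ∀ l : List (ℕ × Bool), (∀ q ∈ l, q.2 = false ∧ q.1 < gens.length) →
      ∃ m ∈ M, val (genWord gens l) = val (gens.getD i0 []) ^ ((l.map Prod.fst).count i0) * m
  | [], _ => ⟨1, M.one_mem, by simp [genWord, Dce.val_nil]⟩
  | q :: l, h => by
    haveI := finite
    obtain ⟨m, hm, e⟩ := pair_word hM hoth l fun x hx => h x (List.mem_cons_of_mem _ hx)
    obtain ⟨hq, hlt⟩ := h q List.mem_cons_self
    have e1 : genWord gens (q :: l) = gens.getD q.1 [] ++ genWord gens l := by simp [genWord, hq]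
    rw [e1, Dce.val_append, e, List.map_cons]
    by_cases hi : q.1 = i0
    · exact ⟨m, hm, by rw [hi, List.count_cons_self, pow_succ']; group⟩
    · refine ⟨(val (gens.getD i0 []) ^ ((l.map Prod.fst).count i0))⁻¹ * val (gens.getD q.1 []) *
        val (gens.getD i0 []) ^ ((l.map Prod.fst).count i0) * m, M.mul_mem ?_ hm, ?_⟩
      · exact conj_inv_mem (fun v hv => conj_pow_mem hM _ hv) (hoth _ hlt hi)
      · rw [List.count_cons_of_ne hi]; group

theorem roots_le_of_pair {M : Subgroup P} {ws : List (List ℕ)} {es : List (List (ℕ × Bool))} {i0 : ℕ}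
    (hM : ∀ v ∈ M, val (([[2], usW] : List (List ℕ)).getD i0 []) * v *
      (val (([[2], usW] : List (List ℕ)).getD i0 []))⁻¹ ∈ M)
    (hoth : ∀ k < 2, k ≠ i0 → val (([[2], usW] : List (List ℕ)).getD k []) ∈ M)
    (h5 : val (([[2], usW] : List (List ℕ)).getD i0 []) ^ 5 = 1) (hlen : ws.length = es.length)
    (h : (subOK [[2], usW] ws es && es.all fun l => Nat.beq (((l.map Prod.fst).count i0) % 5) 0 &&
      l.all fun q => !q.2 && Nat.blt q.1 2) = true) : genGroup ws ≤ M := by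
  simp only [Bool.and_eq_true, List.all_eq_true, Nat.beq_eq, Bool.not_eq_true', Nat.blt_eq] at h
  refine (Subgroup.closure_le _).2 ?_
  rintro _ ⟨w, hw, rfl⟩
  obtain ⟨i, hi, rfl⟩ := List.mem_iff_getElem.1 hw
  have h1 := h.1
  simp only [subOK, List.all_eq_true, List.mem_range, inGen, Bool.and_eq_true] at h1
  have h2 := val_eq_of_wordEq (h1 i hi).2
  rw [List.getD_eq_getElem _ _ hi] at h2
  have hmem : es.getD i [] ∈ es := by
    rw [List.getD_eq_getElem _ _ (hlen ▸ hi)]; exact List.getElem_mem _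
  obtain ⟨hcnt, hl⟩ := h.2 _ hmem
  obtain ⟨m, hm, e⟩ := pair_word hM hoth _ fun q hq => hl q hq
  rw [SetLike.mem_coe, h2, e, ← Nat.mod_add_div (List.count i0 _) 5, hcnt, pow_add, pow_mul, h5, one_pow,
    pow_zero, mul_one, one_mul]
  exact hm

theorem chi_head {h : List ℕ} (hh : okWord h = true) {v : List ℕ} {c : ℕ}
    (hc : wordEq (h ++ v ++ invWord h) (List.replicate c v).flatten = true) :
    val h * val v * (val h)⁻¹ = val v ^ c := by
  have := val_eq_of_wordEq hc
  rwa [Dce.val_append, Dce.val_append, val_invWord h hh, val_rep] at this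

theorem scale_pow {G : Type*} [Group G] {h g v : G} {c d : ℕ} (hc : h * v * h⁻¹ = v ^ c)
    (hd : g * v * g⁻¹ = v ^ d) : ∀ i j : ℕ, h ^ i * g ^ j * v * (h ^ i * g ^ j)⁻¹ = v ^ (c ^ i * d ^ j)
  | 0, 0 => by simp
  | 0, j + 1 => by
    have ih := scale_pow hc hd 0 j
    simp only [pow_zero, one_mul] at ih ⊢
    calc g ^ (j + 1) * v * (g ^ (j + 1))⁻¹ = g * (g ^ j * v * (g ^ j)⁻¹) * g⁻¹ := by rw [pow_succ']; group
      _ = v ^ (d ^ (j + 1)) := by rw [ih, ← conj_pow, hd, ← pow_mul, pow_succ']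
  | i + 1, j => by
    have ih := scale_pow hc hd i j
    calc h ^ (i + 1) * g ^ j * v * (h ^ (i + 1) * g ^ j)⁻¹
        = h * (h ^ i * g ^ j * v * (h ^ i * g ^ j)⁻¹) * h⁻¹ := by rw [pow_succ']; group
      _ = _ := by rw [ih, ← conj_pow, hc, ← pow_mul, pow_succ', mul_assoc]

/-- The scale of the Levi root under the torus. -/
def alpha (i j : ℕ) : ℕ := (sChi.getD 0 (0, 0)).1 ^ i * (sChi.getD 0 (0, 0)).2 ^ j
/-- The scale of the other simple root. -/
def beta (i j : ℕ) : ℕ := (sChi.getD 5 (0, 0)).1 ^ i * (sChi.getD 5 (0, 0)).2 ^ j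

theorem te_ub (i j : ℕ) : te i j * ub * (te i j)⁻¹ = ub ^ alpha i j := by
  rw [te_eq]
  exact scale_pow (chi_head (by decide) (c := (sChi.getD 0 (0, 0)).1) (by decide +kernel))
    (chi_head (by decide) (c := (sChi.getD 0 (0, 0)).2) (by decide +kernel)) i j

theorem te_us (i j : ℕ) : te i j * us * (te i j)⁻¹ = us ^ beta i j := by
  rw [te_eq]
  exact scale_pow (chi_head (by decide) (c := (sChi.getD 5 (0, 0)).1) (by decide +kernel))
    (chi_head (by decide) (c := (sChi.getD 5 (0, 0)).2) (by decide +kernel)) i j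

theorem normal_index5 {M : Subgroup P} (hle : M ≤ S) (hc : Nat.card M = 3125)
    (hn : ∀ b ∈ B0, ∀ v ∈ M, b * v * b⁻¹ ∈ M) : M = R ∨ M = R2 := by
  haveI := finite
  by_cases hub : ub ∈ M
  · refine Or.inr (Subgroup.eq_of_le_of_card_ge ?_ (by rw [hc, card_R2])).symm
    refine roots_le_of_pair (i0 := 1) (fun v hv => hn _ (S_le_B0 us_S) v hv) ?_ us5 (by decide) r2Pair_ok
    intro k hk hne
    obtain rfl : k = 0 := by omega
    exact hub
  · have hsplit := fun {v : P} (hv : v ∈ S) => cyc_split (N := M) hle ub_S step0.2.1 hub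
      (by rw [card_S, hc]) hv
    obtain ⟨m, hm, μ, hμ, hus⟩ := hsplit us_S
    have hubN : ∀ v ∈ M, ub * v * ub⁻¹ ∈ M := fun v hv => hn _ (S_le_B0 ub_S) v hv
    have h1 : te 1 0 * us * (te 1 0)⁻¹ = ub ^ m * (te 1 0 * μ * (te 1 0)⁻¹) := by
      have ha := te_ub 1 0
      have : alpha 1 0 = 1 := by decide
      rw [this, pow_one] at ha
      calc te 1 0 * us * (te 1 0)⁻¹ = (te 1 0 * ub * (te 1 0)⁻¹) ^ m * (te 1 0 * μ * (te 1 0)⁻¹) := by
            rw [conj_pow, hus]; group
        _ = _ := by rw [ha]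
    obtain ⟨k, hk, hk2⟩ := cyc_mul hubN hμ hμ (a := m) (b := m)
    have h2 : te 1 0 * us * (te 1 0)⁻¹ = ub ^ (m + m) * k := by
      rw [te_us, show beta 1 0 = 2 by decide, sq, hus, hk2]
    have := cyc_inj step0.2.1 hub (hn _ (te_B0 1 0) _ hμ) hk (h1.symm.trans h2)
    obtain rfl : m = 0 := by omega
    rw [pow_zero, one_mul] at hus
    refine Or.inl (Subgroup.eq_of_le_of_card_ge ?_ (by rw [hc, card_R])).symm
    refine roots_le_of_pair (i0 := 0) hubN ?_ step0.2.1 (by decide) rPair_ok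
    intro k hk hne
    obtain rfl : k = 1 := by omega
    show val usW ∈ M
    rw [show val usW = μ from hus]; exact hμ

theorem image_cases {φ : MulAut Ly} (hS : Pins φ S) (hB : Pins φ B0) {H : Subgroup P} (hH : H ≤ S)
    (hc : Nat.card H = 3125) (hn : ∀ b ∈ B0, ∀ v ∈ H, b * v * b⁻¹ ∈ H) :
    ∃ M : Subgroup P, (M = R ∨ M = R2) ∧ (∀ h ∈ H, ∃ h' ∈ M, φ (toLy h) = toLy h') ∧
      ∀ h' ∈ M, ∃ h ∈ H, φ (toLy h) = toLy h' := by
  haveI := finite
  set M := (((H.map toLy).map φ.toMonoidHom).comap toLy)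
  have hle : (H.map toLy).map φ.toMonoidHom ≤ toLy.range := by
    rintro _ ⟨_, ⟨h, hh, rfl⟩, rfl⟩
    obtain ⟨h', -, e⟩ := hS h (hH hh)
    exact ⟨h', e.symm⟩
  have hmem : ∀ {h' : P}, h' ∈ M ↔ ∃ h ∈ H, φ (toLy h) = toLy h' := by
    intro h'
    constructor
    · rintro ⟨_, ⟨h, hh, rfl⟩, e⟩
      exact ⟨h, hh, e⟩
    · rintro ⟨h, hh, e⟩
      exact ⟨_, ⟨h, hh, rfl⟩, e⟩
  have hM : M ≤ S := by
    intro h' hh'
    obtain ⟨h, hh, e⟩ := hmem.1 hh'
    obtain ⟨w, hw, e'⟩ := hS h (hH hh)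
    rwa [toLy_injective (e.symm.trans e')]
  have hcM : Nat.card M = 3125 := by
    rw [← Subgroup.card_map_of_injective (K := M) toLy_injective, Subgroup.map_comap_eq_self hle,
      Subgroup.card_map_of_injective (MulEquiv.injective φ),
      Subgroup.card_map_of_injective toLy_injective, hc]
  refine ⟨M, normal_index5 hM hcM fun b hb v hv => ?_, fun h hh => ?_, fun h' hh' => hmem.1 hh'⟩
  · obtain ⟨h, hh, e⟩ := hmem.1 hv
    obtain ⟨a, ha, ea⟩ := pins_surj hB hb
    refine hmem.2 ⟨a * h * a⁻¹, hn a ha h hh, ?_⟩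
    simp only [map_mul, map_inv, ea, e]
  · obtain ⟨h', -, e⟩ := hS h (hH hh)
    exact ⟨h', hmem.2 ⟨h, hh, e⟩, e⟩

theorem R_ne_R2 : (R : Subgroup P) ≠ R2 := fun e => us_notMem (e ▸ us_R)

theorem pins_R {φ : MulAut Ly} (hS : Pins φ S) (hB : Pins φ B0) : Pins φ R ∧ Pins φ R2 := by
  haveI := finite
  obtain ⟨M, hM, f1, g1⟩ := image_cases hS hB R_le card_R fun b hb v hv => (B0_norm hb).2.1 hv
  have hMR : M = R := by
    refine hM.resolve_right fun e => ?_
    subst e
    have hz : ∀ k < 2, ∃ i, φ (toLy (zc ^ i)) = toLy (val (r2c k)) := by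
      intro k hk
      have hr : ∀ k < 2, (r2Pairs.getD k (0, 0)).1 < 5 ∧ (r2Pairs.getD k (0, 0)).2 < 5 := by decide
      obtain ⟨i1, i2⟩ := hr k hk
      have hlen : r2Roots.length = 5 := by decide
      set u := r2Roots.getD (r2Pairs.getD k (0, 0)).1 []
      set v := r2Roots.getD (r2Pairs.getD k (0, 0)).2 []
      have hu : u ∈ r2Roots := by
        simp only [u]; rw [List.getD_eq_getElem _ _ (hlen ▸ i1)]; exact List.getElem_mem _
      have hv : v ∈ r2Roots := by
        simp only [v]; rw [List.getD_eq_getElem _ _ (hlen ▸ i2)]; exact List.getElem_mem _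
      obtain ⟨a, ha, ea⟩ := g1 _ (gen_mem hu)
      obtain ⟨c, hc, ec⟩ := g1 _ (gen_mem hv)
      obtain ⟨i, hi⟩ := zGroup (comm_R ha hc)
      refine ⟨i, ?_⟩
      rw [← hi, show r2c k = invWord u ++ invWord v ++ u ++ v from rfl, Dce.val_append, Dce.val_append,
        Dce.val_append, val_invWord u (r2Ok u hu), val_invWord v (r2Ok v hv)]
      simp only [map_mul, map_inv, ea, ec]
    obtain ⟨i, hi⟩ := hz 0 (by norm_num)
    obtain ⟨j, hj⟩ := hz 1 (by norm_num)
    have hz5 : zc ^ 5 = 1 := by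
      rw [← val_rep, ← Dce.val_nil]; exact val_eq_of_wordEq z_pow5
    have hmod : ∀ n, zc ^ n = zc ^ (n % 5) := fun n => by
      conv_lhs => rw [← Nat.mod_add_div n 5, pow_add, pow_mul, hz5, one_pow, mul_one]
    have hp := r2Pairs_ok
    simp only [Bool.and_eq_true, List.all_eq_true, List.mem_range, Bool.not_eq_true'] at hp
    have hok : ∀ k < 2, okWord (r2c k) = true := by decide
    have hne : val (r2c 0) ≠ 1 := by
      rw [← Dce.val_nil]; exact val_ne (hok 0 (by norm_num)) rfl hp.1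
    have hi0 : i % 5 ≠ 0 := fun e => hne (toLy_injective (by
      rw [← hi, hmod, e, pow_zero, map_one, map_one]))
    obtain ⟨d, hd⟩ : ∃ d, i * d % 5 = j % 5 := by
      have key : ∀ a < 5, ∀ b < 5, a ≠ 0 → ∃ d < 5, a * d % 5 = b := by decide
      obtain ⟨d, -, hd⟩ := key _ (Nat.mod_lt i (by norm_num)) _ (Nat.mod_lt j (by norm_num)) hi0
      exact ⟨d % 5, by rw [Nat.mul_mod, Nat.mod_mod, ← hd, Nat.mul_mod (i % 5) d, Nat.mod_mod]⟩
    have heq : val (r2c 1) = val (r2c 0) ^ (d % 5) := toLy_injective (by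
      have h5 : val (r2c 0) ^ 5 = 1 := toLy_injective (by
        rw [map_pow, ← hi, ← map_pow, ← map_pow, ← pow_mul, mul_comm, pow_mul, hz5, one_pow, map_one, map_one])
      have e2 : val (r2c 0) ^ (d % 5) = val (r2c 0) ^ d := by
        conv_rhs => rw [← Nat.mod_add_div d 5, pow_add, pow_mul, h5, one_pow, mul_one]
      rw [e2, map_pow, ← hi, ← hj, ← map_pow, ← map_pow, ← pow_mul, hmod (i * d), hd, ← hmod])
    have := hp.2 (d % 5) (Nat.mod_lt _ (by norm_num))
    refine val_ne (hok 1 (by norm_num)) (okWord_rep (hok 0 (by norm_num)) _) this ?_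
    rw [val_rep]; exact heq
  subst hMR
  obtain ⟨M2, hM2, f2, g2⟩ := image_cases hS hB R2_le card_R2 fun b hb v hv => (B0_norm hb).2.2 hv
  refine ⟨f1, ?_⟩
  rcases hM2 with rfl | rfl
  · exfalso
    obtain ⟨w, hw, e⟩ := f2 _ ub_R2
    obtain ⟨v, hv, e'⟩ := g1 w hw
    exact step0.2.2 (toLy_injective (φ.injective (e'.trans e.symm)) ▸ hv)
  · exact f2

theorem scale_eq {N : Subgroup P} {u x : P} (h5 : u ^ 5 = 1) (hu : u ∉ N) (hN : ∀ v ∈ N, u * v * u⁻¹ ∈ N)
    {a : ℕ} (ha : a % 5 ≠ 0) {n : P} (hn : n ∈ N) (hx : ∀ v ∈ N, x * v * x⁻¹ ∈ N) {c d : ℕ}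
    (hxc : x * u * x⁻¹ = u ^ c) (h : x * (u ^ a * n) * x⁻¹ = (u ^ a * n) ^ d) : c % 5 = d % 5 := by
  haveI := finite
  obtain ⟨k, hk, e⟩ := cyc_pow hN hn d (a := a)
  rw [e] at h
  have h' : u ^ (c * a) * (x * n * x⁻¹) = u ^ (a * d) * k := by
    rw [← h, pow_mul, ← hxc, conj_pow]; group
  have := cyc_inj h5 hu (hx n hn) hk h'
  rw [Nat.mul_mod, Nat.mul_mod a d] at this
  have key : ∀ p : ℕ, p < 5 → ∀ q : ℕ, q < 5 → ∀ r : ℕ, r < 5 → p * r % 5 = r * q % 5 → r ≠ 0 → p = q := by
    intro p hp q hq r hr h1 h2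
    interval_cases p <;> interval_cases q <;> interval_cases r <;> omega
  exact key _ (Nat.mod_lt c (by norm_num)) _ (Nat.mod_lt d (by norm_num)) _ (Nat.mod_lt a (by norm_num))
    this ha

theorem fix_T {φ : MulAut Ly} (hS : Pins φ S) (hB : Pins φ B0) (hT : Pins φ Tt) :
    ∀ x ∈ Tt, φ (toLy x) = toLy x := by
  haveI := finite
  obtain ⟨hR, hR2⟩ := pins_R hS hB
  obtain ⟨v1, hv1, e1⟩ := hS ub ub_S
  obtain ⟨v2, hv2, e2⟩ := hS us us_S
  obtain ⟨a, ha, n, hn, rfl⟩ := S_split hv1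
  obtain ⟨b, hb, m, hm, rfl⟩ := S_split2 hv2
  have ha0 : a % 5 ≠ 0 := fun h => by
    obtain rfl : a = 0 := by omega
    rw [pow_zero, one_mul] at e1
    obtain ⟨w, hw, e⟩ := pins_surj hR hn
    exact step0.2.2 (toLy_injective (φ.injective (e.trans e1.symm)) ▸ hw)
  have hb0 : b % 5 ≠ 0 := fun h => by
    obtain rfl : b = 0 := by omega
    rw [pow_zero, one_mul] at e2
    obtain ⟨w, hw, e⟩ := pins_surj hR2 hm
    exact us_notMem (toLy_injective (φ.injective (e.trans e2.symm)) ▸ hw)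
  intro x hx
  obtain ⟨x', hx', ex⟩ := hT x hx
  obtain ⟨i, hi, j, hj, rfl⟩ := Tt_elt hx
  obtain ⟨k, hk, l, hl, rfl⟩ := Tt_elt hx'
  have c1 : alpha k l % 5 = alpha i j % 5 := scale_eq step0.2.1 step0.2.2 step0.1 ha0 hn
    (fun v hv => (B0_norm (te_B0 k l)).2.1 hv) (te_ub k l) (toLy_injective (by
      have h := congrArg (fun p => φ (toLy p)) (te_ub i j)
      simp only [map_mul, map_inv, map_pow, ex, e1] at h
      simpa only [map_mul, map_inv, map_pow] using h))
  have c2 : beta k l % 5 = beta i j % 5 := scale_eq us5 us_notMem us_norm hb0 hm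
    (fun v hv => (B0_norm (te_B0 k l)).2.2 hv) (te_us k l) (toLy_injective (by
      have h := congrArg (fun p => φ (toLy p)) (te_us i j)
      simp only [map_mul, map_inv, map_pow, ex, e2] at h
      simpa only [map_mul, map_inv, map_pow] using h))
  have hij : i = k ∧ j = l := by
    have hc := torus_inj
    simp only [List.all_eq_true, List.mem_range, Bool.not_eq_true', Bool.and_eq_false_iff] at hc
    simp only [alpha, beta] at c1 c2
    have key : ∀ p q, q < p → p < 16 → p / 4 = i ∧ p % 4 = j ∧ q / 4 = k ∧ q % 4 = l ∨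
        p / 4 = k ∧ p % 4 = l ∧ q / 4 = i ∧ q % 4 = j → False := by
      intro p q hqp hp h
      rcases h with ⟨rfl, rfl, rfl, rfl⟩ | ⟨rfl, rfl, rfl, rfl⟩ <;>
        (have := hc p hp q hqp; rw [c1, c2] at * ; simp at this)
    by_contra hne
    rcases Nat.lt_trichotomy (4 * i + j) (4 * k + l) with hlt | heq | hgt
    · exact key _ _ hlt (by omega) (Or.inr (by omega))
    · exact hne (by omega)
    · exact key _ _ hgt (by omega) (Or.inl (by omega))
  rw [ex, hij.1, hij.2]

theorem exists_fix_B0 (φ : MulAut Ly) :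
    ∃ g : Ly, ∀ x ∈ B0, (MulAut.conj g * φ) (toLy x) = toLy x := by
  haveI := finite
  obtain ⟨g, hS, hB, hT⟩ := exists_pins_T φ
  set ψ := MulAut.conj g * φ with hψ
  have hfT := fix_T hS hB hT
  have key : ∀ (h : List ℕ) (cs : List ℕ), okWord h = true → chiOK h sRoots cs = true →
      val h ∈ Tt → ∀ u ∈ S, val h * u = u * val h → ∀ v, ψ (toLy u) = toLy v →
        ∃ e ∈ exps 6, v = val (nfW sRoots e) ∧ scale cs e = e := by
    intro h cs hh hc hm u hu hcomm v hv
    obtain ⟨v', hv', e⟩ := hS u hu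
    obtain rfl := toLy_injective (hv.symm.trans e)
    refine cent_nf hh sTower_ok hc hv' (toLy_injective ?_)
    rw [map_mul, map_mul, ← hv, ← hfT _ hm, ← map_mul, ← map_mul, ← map_mul, ← map_mul, hcomm]
  obtain ⟨v1, hv1, e1⟩ := hS ub ub_S
  obtain ⟨v2, hv2, e2⟩ := hS us us_S
  have ht : val tW * ub = ub * val tW := by
    rw [← Dce.val_append, ← Dce.val_append]; exact val_eq_of_wordEq (by decide +kernel)
  have hu : val uW2 * us = us * val uW2 := by
    rw [← Dce.val_append, ← Dce.val_append]; exact val_eq_of_wordEq (by decide +kernel)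
  obtain ⟨ea, hea, rfl, hsa⟩ := key tW _ (by decide) sChi_t (gen_mem (by simp)) ub ub_S ht _ e1
  obtain ⟨eb, heb, rfl, hsb⟩ := key uW2 _ (by decide) sChi_u (gen_mem (by simp)) us us_S hu _ e2
  have hsc := scaleS_ok
  simp only [List.all_eq_true, Bool.and_eq_true, Bool.or_eq_true, Bool.not_eq_true',
    decide_eq_false_iff_not, decide_eq_true_eq] at hsc
  have ea' := (hsc ea hea).1.resolve_left (not_not.2 hsa)
  have eb' := (hsc eb heb).2.resolve_left (not_not.2 hsb)
  set a := ea.getD 0 0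
  set b := eb.getD 5 0
  have va : val (nfW sRoots ea) = ub ^ a := by
    rw [ea']; simp only [nfW, sRoots, List.replicate_zero, List.flatten_nil, List.append_nil]; exact val_rep _ _
  have vb : val (nfW sRoots eb) = us ^ b := by
    rw [eb']; simp only [nfW, sRoots, List.replicate_zero, List.flatten_nil, List.nil_append, List.append_nil]; exact val_rep _ _
  rw [va] at e1
  rw [vb] at e2
  have hub5 : ub ^ 5 = 1 := step0.2.1
  have hmod : ∀ {p : P}, p ^ 5 = 1 → ∀ n, p ^ n = p ^ (n % 5) := fun {p} h n => by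
    conv_lhs => rw [← Nat.mod_add_div n 5, pow_add, pow_mul, h, one_pow, mul_one]
  have ha0 : a % 5 ≠ 0 := fun h => by
    rw [hmod hub5, h, pow_zero, map_one] at e1
    exact step0.2.2 (by rw [toLy_injective ((ψ.map_eq_one_iff.1 e1).trans (map_one toLy).symm)]; exact one_mem _)
  have hb0 : b % 5 ≠ 0 := fun h => by
    rw [hmod us5, h, pow_zero, map_one] at e2
    exact us_notMem (by rw [toLy_injective ((ψ.map_eq_one_iff.1 e2).trans (map_one toLy).symm)]; exact one_mem _)
  have hts := torus_surj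
  simp only [List.all_eq_true, List.mem_range, Bool.or_eq_true, Nat.beq_eq, List.any_eq_true,
    Bool.and_eq_true] at hts
  obtain ⟨i, -, j, -, hia, hjb⟩ :=
    (hts (a % 5) (Nat.mod_lt _ (by norm_num)) (b % 5) (Nat.mod_lt _ (by norm_num))).resolve_left
      (fun h => h.elim ha0 hb0)
  have ca : te i j * ub * (te i j)⁻¹ = ub ^ a := by rw [te_ub, hmod hub5, hmod hub5 a, ← hia]; rfl
  have cb : te i j * us * (te i j)⁻¹ = us ^ b := by rw [te_us, hmod us5, hmod us5 b, ← hjb]; rfl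
  have hcomm : ∀ x ∈ Tt, (te i j)⁻¹ * x * te i j = x := by
    intro x hx
    obtain ⟨k, -, l, -, rfl⟩ := Tt_elt hx
    rw [mul_assoc, te_mul, add_comm k, add_comm l, ← te_mul, inv_mul_cancel_left]
  refine ⟨(toLy (te i j))⁻¹ * g, fun x hx => ?_⟩
  rw [map_mul, mul_assoc, ← hψ, MulAut.mul_apply]
  have hfix : ∀ w ∈ ([[2], usW, tW, uW2] : List (List ℕ)),
      MulAut.conj (toLy (te i j))⁻¹ (ψ (toLy (val w))) = toLy (val w) := by
    intro w hw
    simp only [List.mem_cons, List.not_mem_nil, or_false] at hw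
    rcases hw with rfl | rfl | rfl | rfl
    · rw [e1, MulAut.conj_apply, ← ca]; simp only [map_mul, map_inv]; group
    · rw [e2, MulAut.conj_apply, ← cb]; simp only [map_mul, map_inv]; group
    all_goals
      rw [hfT _ (gen_mem (by simp)), MulAut.conj_apply]
      conv_rhs => rw [← hcomm _ (gen_mem (gens := [tW, uW2]) (by simp))]
      simp only [map_mul, map_inv, inv_inv]
  have hle : B0 ≤ genGroup [[2], usW, tW, uW2] := by
    refine (Subgroup.closure_le _).2 ?_
    rintro _ ⟨w, hw, rfl⟩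
    rcases List.mem_append.1 hw with hw | hw
    · have hsub : genGroup [[2], usW] ≤ genGroup [[2], usW, tW, uW2] :=
        Subgroup.closure_mono fun y ⟨v, hv, e⟩ =>
          ⟨v, List.mem_of_mem_take (i := 2) (l := [[2], usW, tW, uW2]) hv, e⟩
      exact hsub (mem_of_subOK sPair_ok hw)
    · exact gen_mem (by
        simp only [List.mem_cons, List.not_mem_nil, or_false] at hw ⊢
        tauto)
  refine closure_induction_mul (p := fun x => MulAut.conj (toLy (te i j))⁻¹ (ψ (toLy x)) = toLy x)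
    ?_ (by simp) ?_ (hle hx)
  · rintro _ ⟨w, hw, rfl⟩; exact hfix w hw
  · intro p q hp hq; simp only [map_mul, hp, hq]

theorem fix_all (ψ : MulAut Ly) (hB : ∀ x ∈ B0, ψ (toLy x) = toLy x) : ψ = 1 := by
  haveI := finite
  have hRB : ∀ v ∈ R, ψ (toLy v) = toLy v := fun v hv => hB v (S_le_B0 (R_le hv))
  have hR2B : ∀ v ∈ R2, ψ (toLy v) = toLy v := fun v hv => hB v (S_le_B0 (R2_le hv))
  have hT : ∀ v ∈ Tt, ψ (toLy v) = toLy v := fun v hv => hB v (Tt_le hv)
  have hco := comm_ok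
  simp only [Bool.and_eq_true, List.all_eq_true, List.mem_range, Bool.or_eq_true, Nat.beq_eq,
    Bool.not_eq_true'] at hco
  have hz5 : zc ^ 5 = 1 := by rw [← val_rep, ← Dce.val_nil]; exact val_eq_of_wordEq z_pow5
  have hzmod : ∀ n, zc ^ n = zc ^ (n % 5) := fun n => by
    conv_lhs => rw [← Nat.mod_add_div n 5, pow_add, pow_mul, hz5, one_pow, mul_one]
  have zc0 : ∀ n, (zc ^ n * val tW = val tW * zc ^ n ∨ zc ^ n * val [0] = val [0] * zc ^ n) →
      zc ^ n = 1 := by
    intro n h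
    rw [hzmod] at h ⊢
    rcases hco.2 (n % 5) (Nat.mod_lt _ (by norm_num)) with h0 | ⟨h1, h2⟩
    · rw [h0, pow_zero]
    · have hzok : okWord (zRoots.getD 0 []) = true := by decide
      exfalso
      rcases h with h | h
      · exact val_ne (okWord_append (okWord_rep hzok _) (by decide)) (okWord_append (by decide) (okWord_rep hzok _))
          h1 (by rw [Dce.val_append, Dce.val_append, val_rep]; exact h)
      · exact val_ne (okWord_append (okWord_rep hzok _) (by decide)) (okWord_append (by decide) (okWord_rep hzok _))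
          h2 (by rw [Dce.val_append, Dce.val_append, val_rep]; exact h)
  have hfix : ∀ (w : List ℕ) {H : Subgroup P}, (∀ v ∈ H, val w * v * (val w)⁻¹ ∈ H) →
      (∀ v ∈ H, ψ (toLy v) = toLy v) →
      ∀ v ∈ H, (toLy (val w))⁻¹ * ψ (toLy (val w)) * toLy v =
        toLy v * ((toLy (val w))⁻¹ * ψ (toLy (val w))) := by
    intro w H hn hH v hv
    have h1 : ψ (toLy (val w)) * toLy v = toLy (val w * v * (val w)⁻¹) * ψ (toLy (val w)) := by
      rw [← hH v hv, ← hH _ (hn v hv), ← map_mul ψ, ← map_mul ψ, ← map_mul, ← map_mul, inv_mul_cancel_right]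
    calc (toLy (val w))⁻¹ * ψ (toLy (val w)) * toLy v
        = (toLy (val w))⁻¹ * (ψ (toLy (val w)) * toLy v) := by group
      _ = _ := by rw [h1]; simp only [map_mul, map_inv]; group
  have hnb : ψ (toLy (val nbW)) = toLy (val nbW) := by
    have hc := hfix nbW (H := R) (fun v hv => norm_mem nbR_ok hv) hRB
    obtain ⟨n, hn⟩ := cent_R_ly hc
    have ht : val nbW * val tW = val tW * val nbW := by
      rw [← Dce.val_append, ← Dce.val_append]; exact val_eq_of_wordEq hco.1.1
    have e : ψ (toLy (val nbW)) = toLy (val nbW * zc ^ n) := by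
      rw [map_mul, ← hn, mul_inv_cancel_left]
    have h2 : zc ^ n * val tW = val tW * zc ^ n := toLy_injective (by
      have h3 := congrArg (fun p => ψ (toLy p)) ht
      simp only [map_mul, hT _ (gen_mem (show tW ∈ [tW, uW2] by simp)), e] at h3
      rw [← mul_assoc (toLy (val tW)), ← map_mul toLy (val tW), ← ht, map_mul, mul_assoc, mul_assoc] at h3
      simp only [map_mul]
      exact mul_left_cancel h3)
    rw [e, zc0 n (Or.inl h2), mul_one]
  have hns : ψ (toLy (val nsW)) = toLy (val nsW) := by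
    have hc := hfix nsW (H := R2) (fun v hv => norm_mem nsR2_ok hv) hR2B
    have ht : val nsW * val uW2 = val uW2 * val nsW := by
      rw [← Dce.val_append, ← Dce.val_append]; exact val_eq_of_wordEq hco.1.2
    have hu := hT _ (gen_mem (show uW2 ∈ [tW, uW2] by simp))
    have h1 : (toLy (val nsW))⁻¹ * ψ (toLy (val nsW)) * toLy (val uW2) =
        toLy (val uW2) * ((toLy (val nsW))⁻¹ * ψ (toLy (val nsW))) := by
      have h3 : ψ (toLy (val nsW)) * toLy (val uW2) = toLy (val uW2) * ψ (toLy (val nsW)) := by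
        rw [← hu, ← map_mul ψ, ← map_mul ψ, ← map_mul, ← map_mul, ht]
      have h4 : toLy (val uW2) * (toLy (val nsW))⁻¹ = (toLy (val nsW))⁻¹ * toLy (val uW2) :=
        (Commute.inv_right (show Commute (toLy (val uW2)) (toLy (val nsW)) from by
          unfold Commute SemiconjBy; rw [← map_mul, ← map_mul, ht])).eq
      rw [mul_assoc, h3, ← mul_assoc, ← h4, mul_assoc]
    have := cent_R2_ly hc h1
    rwa [inv_mul_eq_one, eq_comm] at this
  have hP : ∀ p : P, ψ (toLy p) = toLy p := by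
    have hsix : ∀ x ∈ genGroup sixGens, ψ (toLy x) = toLy x := by
      intro x hx
      refine closure_induction_mul (p := fun x => ψ (toLy x) = toLy x) ?_ (by simp)
        (fun a b ha hb => by rw [map_mul, map_mul, ha, hb]) hx
      rintro _ ⟨w, hw, rfl⟩
      simp only [sixGens, List.mem_cons, List.not_mem_nil, or_false] at hw
      rcases hw with rfl | rfl | rfl | rfl | rfl | rfl
      · exact hB _ (S_le_B0 ub_S)
      · exact hB _ (S_le_B0 us_S)
      · exact hT _ (gen_mem (by simp))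
      · exact hT _ (gen_mem (by simp))
      · exact hnb
      · exact hns
    intro p
    have hp : p ∈ Subgroup.closure (Set.range (PresentedGroup.of : Fin 5 → P)) := by
      rw [PresentedGroup.closure_range_of]; trivial
    refine hsix p ((Subgroup.closure_le _).2 ?_ hp)
    rintro _ ⟨i, rfl⟩
    rw [← val_gen, SetLike.mem_coe]
    exact mem_of_subOK letters_ok (by fin_cases i <;> decide)
  have hz : ψ lyZ = lyZ := by
    have hc : ∀ k ∈ kGroup kData, ψ lyZ * lyZ⁻¹ * toLy k = toLy k * (ψ lyZ * lyZ⁻¹) := by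
      intro k hk
      obtain ⟨k', hk'⟩ := K_conj hk
      have h1 : lyZ * toLy k' * lyZ⁻¹ = toLy k := by rw [hk']; group
      have h2 : ψ lyZ * toLy k' * (ψ lyZ)⁻¹ = toLy k := by
        have h3 := congrArg ψ h1
        rwa [map_mul, map_mul, map_inv, hP, hP] at h3
      calc ψ lyZ * lyZ⁻¹ * toLy k = ψ lyZ * (lyZ⁻¹ * (lyZ * toLy k' * lyZ⁻¹)) := by rw [h1]; group
        _ = ψ lyZ * toLy k' * (ψ lyZ)⁻¹ * (ψ lyZ * lyZ⁻¹) := by group
        _ = _ := by rw [h2]
    obtain ⟨n, hn⟩ := cent_R_ly fun v hv => hc v (R_le_K hv)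
    have ha : val [0] ∈ kGroup kData := gen_mem (by decide +kernel)
    have h4 := hc _ ha
    rw [hn, ← map_mul, ← map_mul] at h4
    rw [zc0 n (Or.inr (toLy_injective h4)), map_one, mul_inv_eq_one] at hn
    exact hn
  refine MulEquiv.ext fun x => ?_
  have hx : x ∈ Subgroup.closure (Set.range setting.π ∪ {setting.z}) := by rw [gens_top]; trivial
  induction hx using Subgroup.closure_induction with
  | mem y hy =>
    rcases hy with ⟨p, rfl⟩ | rfl
    · exact hP p
    · exact hz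
  | one => simp
  | mul a b _ _ ha hb => rw [map_mul, ha, hb]; simp
  | inv a _ ha => rw [map_inv, ha]; simp

/-- Every automorphism of the presented Lyons group is inner. -/
theorem inn_eq_top : Cfsg.Inn Ly = ⊤ := by
  rw [eq_top_iff]
  intro φ _
  obtain ⟨g, hg⟩ := exists_fix_B0 φ
  refine ⟨g⁻¹, ?_⟩
  rw [map_inv]
  exact inv_eq_of_mul_eq_one_right (fix_all _ hg)

/-- The outer automorphism group of the presented Lyons group is trivial. -/
theorem card_out : Nat.card (Cfsg.Out Ly) = 1 := Subgroup.index_eq_one.2 inn_eq_top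

end Cfsg.Agent.Lib.CosetEnum.LyRep.Out
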