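import Mathlib

/-! Certificate data for the automorphisms of the presented Lyons group (generated by scripts/ly/gen_out.py). -/

set_option autoImplicit false
set_option maxRecDepth 100000

namespace Cfsg.Agent.Lib.CosetEnum.LyRep.Out

/-- Root elements of `S`, the first the Levi root of the point stabiliser. -/
def sRoots : List (List ℕ) :=
  [[2], [4, 3, 5, 2, 4, 2, 5, 3], [4, 2, 5, 3, 2, 5, 3, 4], [5, 1, 5, 0, 4, 1, 4, 0], [3, 3, 4, 2, 2], [1, 4, 0, 3, 5, 2, 3, 5, 2, 2, 5, 3]]

/-- Root elements of `R2`. -/
def r2Roots : List (List ℕ) :=
  [[2], [3, 3, 4, 2, 2], [5, 1, 5, 0, 4, 1, 4, 0], [4, 3, 5, 2, 4, 2, 5, 3], [4, 2, 5, 3, 2, 5, 3, 4]]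

/-- Root elements of `F`, the derived group of `R2`. -/
def fRoots : List (List ℕ) :=
  [[5, 1, 5, 0, 4, 1, 4, 0], [4, 3, 5, 2, 4, 2, 5, 3], [4, 2, 5, 3, 2, 5, 3, 4]]

/-- The central root element of `R`. -/
def zRoots : List (List ℕ) :=
  [[5, 1, 5, 0, 4, 1, 4, 0]]

/-- The other simple root element. -/
def usW : List ℕ :=
  [1, 4, 0, 3, 5, 2, 3, 5, 2, 2, 5, 3]

/-- First torus generator. -/
def tW : List ℕ :=
  [0, 0]

/-- Second torus generator. -/
def uW2 : List ℕ :=
  [0, 2, 0, 3, 3, 0]

/-- The negative of the Levi root. -/
def nbW : List ℕ :=
  [3, 0, 2, 2, 3, 1, 2]

/-- The negative of the other simple root. -/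
def nsW : List ℕ :=
  [6, 4, 3, 5, 2, 4, 2, 5, 3, 7]

/-- Steps for `S`: conjugates in the rest, a point, an orbit of the rest it leaves. -/
def sTower : List (List (List (ℕ × Bool)) × ℕ × List ℕ) :=
  [([[(0, false)], [(0, false), (0, false), (1, false)], [(2, false)], [(0, false), (0, false), (1, false), (3, false), (1, false)], [(0, false), (0, false), (0, false), (3, false), (1, false), (3, false), (1, false), (4, false)]], 439, [439, 3904, 717, 440, 718]), ([[(0, false)], [(1, false)], [(2, false)], [(1, false), (3, false)]], 3584, [3584]), ([[(0, false)], [(0, false), (0, false), (0, false), (0, false), (1, false)], [(2, false)]], 116, [116, 1276, 1193, 3120, 2565]), ([[(0, false)], [(1, false)]], 2305, [2305]), ([[(0, false)]], 145, [145]), ([], 1, [1])]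

/-- Steps for `R2`. -/
def r2Tower : List (List (List (ℕ × Bool)) × ℕ × List ℕ) :=
  [([[(2, false), (2, false), (3, false), (0, false), (3, false)], [(1, false)], [(2, false)], [(2, false), (2, false), (3, false)]], 439, [439, 717, 3904, 718, 440]), ([[(0, false)], [(1, false)], [(0, false), (2, false)]], 133, [133, 556, 551, 596, 881]), ([[(0, false)], [(1, false)]], 570, [570]), ([[(0, false)]], 692, [692]), ([], 1, [1])]

/-- The characters of the roots of `S` on the torus generators. -/
def sChi : List (ℕ × ℕ) :=
  [(1, 3), (2, 2), (2, 4), (4, 2), (2, 3), (2, 1)]

/-- The characters of the roots of `R2`. -/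
def r2Chi : List (ℕ × ℕ) :=
  [(1, 3), (2, 3), (4, 2), (2, 2), (2, 4)]

/-- `R2` is normalised by the other simple root. -/
def usR2 : List (List (ℕ × Bool)) :=
  [[(1, false), (4, false), (1, false), (0, false), (1, false)], [(1, false)], [(2, false)], [(2, false), (2, false), (2, false), (2, false), (3, false)], [(4, false)]]

/-- `R` in the two simple roots, first exponent sum zero. -/
def rFromPair : List (List (ℕ × Bool)) :=
  [[(1, false), (1, false), (0, false), (1, false), (0, false), (1, false), (1, false), (1, false), (1, false), (0, false), (1, false), (1, false), (0, false), (0, false), (1, false)], [(0, false), (0, false), (0, false), (1, false), (0, false), (0, false), (1, false), (0, false), (0, false), (1, false), (0, false), (0, false), (0, false), (1, false), (1, false)], [(0, false), (1, false), (0, false), (1, false), (0, false), (1, false), (0, false), (1, false), (0, false), (1, false)], [(0, false), (0, false), (0, false), (0, false), (1, false), (0, false), (0, false), (1, false), (1, false), (1, false), (0, false), (1, false), (1, false), (0, false), (0, false), (1, false), (1, false), (1, false), (0, false), (1, false)], [(1, false)]]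

/-- `R2` in the two simple roots, second exponent sum zero. -/
def r2FromPair : List (List (ℕ × Bool)) :=
  [[(0, false)], [(0, false), (0, false), (0, false), (0, false), (1, false), (0, false), (0, false), (1, false), (1, false), (1, false), (0, false), (1, false), (1, false), (0, false), (0, false), (1, false), (1, false), (1, false), (0, false), (1, false)], [(0, false), (1, false), (0, false), (1, false), (0, false), (1, false), (0, false), (1, false), (0, false), (1, false)], [(1, false), (1, false), (0, false), (1, false), (0, false), (1, false), (1, false), (1, false), (1, false), (0, false), (1, false), (1, false), (0, false), (0, false), (1, false)], [(0, false), (0, false), (0, false), (1, false), (0, false), (0, false), (1, false), (0, false), (0, false), (1, false), (0, false), (0, false), (0, false), (1, false), (1, false)]]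

/-- `F` is normalised by `R2`. -/
def fR2 : List (List (ℕ × Bool)) :=
  [[(0, false)], [(1, false)], [(1, false), (1, false), (2, false)], [(0, false)], [(1, false)], [(0, false), (2, false)], [(0, false)], [(1, false)], [(2, false)], [(0, false)], [(1, false)], [(2, false)], [(0, false)], [(1, false)], [(2, false)]]

/-- Commutators of `R2` lie in `F`. -/
def fComm : List (List (ℕ × Bool)) :=
  [[], [(0, false), (0, false), (0, false), (0, false), (1, false), (1, false), (1, false), (2, false), (2, false)], [], [], [(1, false), (1, false)], [(0, false), (1, false), (1, false), (2, false), (2, false), (2, false)], [], [], [], [(0, false)], [], [], [], [], [], [], [], [], [], [], [(1, false), (1, false), (1, false)], [(0, false), (0, false), (0, false), (0, false)], [], [], []]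

/-- Commutators of `R` lie in the centre. -/
def zComm : List (List (ℕ × Bool)) :=
  [[], [], [], [], [(0, false)], [], [], [], [(0, false), (0, false), (0, false), (0, false)], [], [], [], [], [], [], [], [(0, false)], [], [], [], [(0, false), (0, false), (0, false), (0, false)], [], [], [], []]

/-- Two commutators of `R2` generating different subgroups. -/
def r2Pairs : List (ℕ × ℕ) :=
  [(0, 1), (0, 4)]

/-- `R` in the generators of `K`. -/
def rInK : List (List ℕ) :=
  [[14, 6, 6, 10, 14, 4, 10], [0, 6, 6, 6, 0], [8], [0, 0, 6, 4, 4, 4], [0, 0, 2, 14, 6, 10, 14, 10]]

/-- Conjugation by `z` preserves `R`. -/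
def thR : List (List (ℕ × Bool)) :=
  [[(0, false), (0, false), (0, false), (0, false), (1, false), (3, false), (3, false), (3, false), (1, false)], [(0, false), (0, false), (1, false), (3, false), (1, false), (1, false), (4, false), (4, false)], [(2, false), (2, false)], [(0, false), (1, false), (3, false), (1, false), (3, false), (4, false), (4, false)], [(1, false), (1, false), (3, false), (3, false), (1, false), (1, false), (4, false)]]

/-- `K` normalises `R`. -/
def kNormR : List (List (ℕ × Bool)) :=
  [[(0, false)], [(1, false), (2, false)], [(2, false)], [(2, false), (3, false)], [(2, false), (2, false), (2, false), (4, false)], [(0, false), (2, false), (2, false), (2, false), (2, false)], [(1, false), (2, false), (2, false), (2, false)], [(2, false)], [(3, false)], [(2, false), (2, false), (4, false)], [(0, false)], [(1, false), (2, false)], [(2, false)], [(2, false), (2, false), (2, false), (3, false)], [(2, false), (2, false), (4, false)], [(0, false)], [(1, false), (2, false)], [(2, false)], [(2, false), (2, false), (2, false), (2, false), (3, false)], [(2, false), (2, false), (2, false), (4, false)], [(0, false)], [(1, false)], [(2, false)], [(3, false)], [(4, false)],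 [(0, false), (0, false), (0, false), (3, false), (1, false), (3, false), (1, false), (4, false)], [(0, false), (1, false), (3, false), (3, false), (1, false), (1, false), (4, false), (4, false), (4, false)], [(2, false), (2, false), (2, false)], [(0, false), (1, false), (3, false), (1, false), (3, false), (4, false), (4, false)], [(0, false), (0, false), (0, false), (0, false), (1, false), (3, false), (1, false), (1, false), (1, false), (4, false), (4, false)], [(0, false), (0, false), (0, false), (0, false), (1, false), (1, false), (3, false), (3, false), (3, false), (3, false), (1, false), (4, false)], [(0, false), (1, false), (1, false), (4, false), (0, false)], [(2, false), (2, false), (2, false)], [(0, false), (0, false), (3, false), (3, false), (3, false), (4, false), (4, false), (0, false), (4, false)], [(0, false), (0, false), (0, false), (3, false), (1, false), (3, false), (1, false), (4, false)], [(0, false), (1, false), (1, false), (3, false), (1, false), (4, false)], [(0, false), (1, false), (1, false), (1, false), (4, false), (4, false), (4, false), (4, false), (0, false)], [(2, false), (2, false), (2, false)], [(0, false), (3, false), (3, false), (4, false), (4, false),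 (4, false), (0, false)], [(0, false), (0, false), (0, false), (1, false), (1, false), (3, false), (3, false), (1, false), (4, false), (4, false), (4, false), (4, false)]]

/-- An element of `R` for each fibre representative. -/
def fibTest : List (List ℕ) :=
  [[4, 3, 5, 2, 4, 2, 5, 3], [4, 3, 5, 2, 4, 2, 5, 3], [4, 3, 5, 2, 4, 2, 5, 3], [3, 3, 4, 2, 2], [4, 3, 5, 2, 4, 2, 5, 3]]

/-- They lie in `R`. -/
def fibTestR : List (List (ℕ × Bool)) :=
  [[(0, false)], [(0, false)], [(0, false)], [(3, false)], [(0, false)]]

/-- The conjugates of `c` by the five fibre representatives, in `K`. -/
def fibConj : List (List ℕ) :=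
  [[14, 6, 6, 10, 14, 4, 10], [14, 6, 6, 10, 14, 4, 10], [0, 2, 10, 0, 14, 10, 6, 14], [0, 4, 2, 10, 14, 6, 10, 14], [0, 2, 10, 0, 14, 10, 6, 14]]

/-- Representatives of the six cosets of `B0` in the point stabiliser. -/
def bReps : List (List ℕ) :=
  [[], [2, 0], [3, 0, 2, 2, 3, 1, 2], [0, 2], [0, 2, 2], [0, 3]]

/-- The cosets under the generators. -/
def bClose : List (List (ℕ × List (ℕ × Bool))) :=
  [[(0, []), (0, [(0, false)]), (3, []), (3, [(0, false)]), (3, [(0, false), (0, false)]), (0, [(0, false), (0, false), (4, false), (0, false), (0, false), (0, false)]), (0, [(1, false), (4, false), (4, false), (4, false), (5, false), (1, false)]), (0, [(1, false), (1, false), (2, false), (4, false), (2, false)]), (0, [(0, false), (0, false), (0, false), (4, false), (0, false), (0, false)]), (0, [(3, false)]), (1, [(0, false), (0, false), (0, false), (0, false)]), (5, [(0, false)]), (2, [(6, false), (6, false), (7, false), (7, false), (0, false), (7, false)])], [(1, []), (3, [(0, false)]), (0, [(0, false), (0, false), (6, false)]), (2, [(0, false), (0, false), (6, false)]), (4, [(0, false), (6, false), (6, false), (7, false), (7, false), (7, false)]), (1, [(1, false), (2, false),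 (5, false), (5, false), (1, false)]), (1, [(0, false), (0, false), (0, false), (4, false), (0, false), (0, false)]), (1, [(1, false), (1, false), (1, false), (2, false), (2, false)]), (1, [(1, false), (2, false), (2, false), (4, false), (5, false), (5, false), (1, false), (5, false)]), (1, [(3, false), (3, false), (3, false)]), (0, [(0, false), (6, false)]), (3, [(0, false), (6, false), (6, false), (6, false), (7, false)]), (5, [(0, false), (6, false), (6, false), (7, false), (7, false), (7, false)])], [(2, []), (5, [(0, false), (6, false), (6, false), (7, false), (0, false)]), (1, [(0, false), (0, false), (6, false), (6, false)]), (5, [(0, false), (0, false), (6, false), (6, false), (6, false), (7, false), (7, false)]), (0, [(0, false), (0, false), (6, false), (6, false), (6, false), (7, false)]), (2, [(1, false), (1, false), (4, false), (4, false), (4, false), (5, false), (5, false), (1, false), (5, false)]), (2, [(1, false), (1, false), (2, false), (2, false), (2, false), (2, false)]), (2, [(1, false), (2, false), (5, false), (5, false), (1, false)]), (2, [(1, false), (1, false), (1, false), (2, false), (2, false)]), (2, [(3, false)]), (5, [(0, false), (0, false), (0, false),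 (6, false), (6, false)]), (4, [(0, false), (0, false), (6, false), (6, false), (6, false), (7, false), (7, false)]), (0, [(6, false), (6, false), (6, false), (7, false), (0, false)])], [(3, []), (4, []), (2, [(0, false), (6, false)]), (4, [(6, false), (6, false), (7, false), (7, false), (7, false)]), (1, [(0, false), (7, false), (7, false), (7, false)]), (3, [(1, false), (2, false), (3, false), (5, false), (5, false), (5, false)]), (3, [(4, false), (4, false), (4, false), (4, false), (5, false), (5, false)]), (3, [(1, false), (1, false), (4, false), (5, false), (5, false), (1, false), (1, false)]), (3, [(4, false), (4, false), (5, false), (5, false), (5, false)]), (3, [(3, false), (3, false), (3, false)]), (4, [(6, false), (6, false), (6, false), (7, false)]), (1, [(6, false), (6, false), (7, false), (0, false), (7, false), (7, false)]), (4, [(7, false), (0, false), (7, false), (7, false)])], [(4, []), (2, [(6, false), (6, false), (7, false), (7, false), (7, false), (0, false)]), (4, [(6, false), (6, false), (7, false), (7, false), (7, false)]), (1, [(0, false), (7, false), (7, false), (7, false)]), (5, [(0, false), (6, false), (7, false)]), (4, [(4, false), (4, false), (5, false),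 (5, false), (5, false)]), (4, [(1, false), (2, false), (2, false), (2, false), (3, false), (3, false), (5, false)]), (4, [(1, false), (2, false), (3, false), (5, false), (5, false), (5, false)]), (4, [(1, false), (2, false), (4, false), (2, false), (4, false), (5, false), (5, false)]), (4, [(3, false), (3, false), (3, false)]), (3, [(6, false), (6, false), (7, false), (7, false), (7, false)]), (2, [(0, false), (0, false), (6, false), (6, false), (7, false), (7, false)]), (3, [(0, false), (6, false), (7, false)])], [(5, []), (1, [(0, false), (0, false), (0, false), (0, false)]), (5, [(0, false), (6, false), (7, false)]), (0, [(0, false), (6, false)]), (2, [(0, false), (6, false)]), (5, [(1, false), (1, false), (1, false), (1, false), (2, false), (2, false)]), (5, [(2, false), (2, false), (2, false), (2, false), (5, false), (1, false), (5, false)]), (5, [(1, false), (2, false), (4, false), (2, false), (4, false), (5, false), (5, false)]), (5, [(1, false), (1, false), (4, false), (5, false), (5, false), (1, false), (1, false)]), (5, [(3, false), (3, false), (3, false)]), (2, [(0, false), (0, false), (6, false), (6, false), (6, false)]), (0, [(0, false), (0, false), (0, false), (0, false),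 (6, false)]), (1, [(0, false), (0, false), (6, false), (6, false), (6, false), (7, false)])]]

/-- The points fixed by `R2`. -/
def r2Fix : List ℕ :=
  [0, 3580, 3581, 3582, 3583, 3776]

/-- An orbit of `S`. -/
def sOrb : List ℕ :=
  [3580, 3583, 3582, 3581, 3776]

/-- The nontrivial representatives do not normalise `S`. -/
def sWit : List (ℕ × ℕ) :=
  [(0, 3580), (0, 3580), (0, 3580), (0, 3580), (0, 3580)]

/-- The nontrivial representatives do not normalise `R2`. -/
def r2Wit : List (ℕ × ℕ) :=
  [(0, 3580), (0, 3580), (0, 3580), (0, 3580), (0, 3580)]

/-- Elements normalising `R2` moving `0` to each of its fixed points. -/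
def lineReps : List (List ℕ) :=
  [[], [6, 4, 3, 5, 2, 4, 2, 5, 3, 7, 6, 4, 3, 5, 2, 4, 2, 5, 3, 7, 6, 4, 3, 5, 2, 4, 2, 5, 3, 7], [6, 4, 3, 5, 2, 4, 2, 5, 3, 7, 6, 4, 3, 5, 2, 4, 2, 5, 3, 7], [6, 4, 3, 5, 2, 4, 2, 5, 3, 7], [6, 4, 3, 5, 2, 4, 2, 5, 3, 7, 6, 4, 3, 5, 2, 4, 2, 5, 3, 7, 0, 0], [6, 4, 3, 5, 2, 4, 2, 5, 3, 7, 6, 4, 3, 5, 2, 4, 2, 5, 3, 7, 1, 4, 0, 3, 5, 2, 3, 5, 2, 2, 5, 3]]

/-- They normalise `R2`. -/
def lineNorm : List (List (ℕ × Bool)) :=
  [[(0, false)], [(1, false)], [(2, false)], [(3, false)], [(4, false)], [(0, false)], [(0, false), (4, false), (4, false), (0, false), (1, false), (4, false)], [(2, false), (3, false), (3, false), (3, false), (3, false)], [(3, false)], [(4, false)], [(0, false)], [(0, false), (1, false), (0, false), (4, false), (0, false)], [(2, false), (3, false)], [(3, false)], [(4, false)], [(0, false)], [(4, false), (0, false), (4, false), (1, false), (0, false), (0, false), (0, false)], [(2, false), (3, false), (3, false), (3, false)], [(3, false)], [(4, false)], [(0, false)], [(4, false), (0, false), (1, false), (4, false), (4, false), (1, false)], [(2, false), (2, false), (2, false), (2, false), (3, false), (3, false), (3, false), (3, false)],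 [(3, false), (3, false)], [(4, false), (4, false)], [(1, false), (1, false), (1, false)], [(0, false), (1, false), (0, false), (4, false), (0, false)], [(2, false), (3, false)], [(2, false), (2, false), (2, false), (2, false)], [(4, false)]]

/-- So do their inverses. -/
def lineInv : List (List (ℕ × Bool)) :=
  [[(0, false)], [(1, false)], [(2, false)], [(3, false)], [(4, false)], [(0, false)], [(0, false), (1, false), (0, false), (4, false), (0, false)], [(2, false), (3, false)], [(3, false)], [(4, false)], [(0, false)], [(0, false), (4, false), (4, false), (0, false), (1, false), (4, false)], [(2, false), (3, false), (3, false), (3, false), (3, false)], [(3, false)], [(4, false)], [(0, false)], [(3, false), (4, false), (0, false), (1, false), (4, false), (4, false), (4, false)], [(2, false), (3, false), (3, false)], [(3, false)], [(4, false)], [(0, false)], [(4, false), (0, false), (1, false), (0, false), (1, false), (1, false)], [(2, false), (2, false), (2, false), (2, false), (3, false), (3, false)], [(3, false), (3, false), (3, false)], [(4, false), (4, false), (4, false)], [(4, false), (0, false), (1, false), (4, false), (4, false), (1, false)], [(0, false), (0, false)], [(3,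 false), (3, false), (3, false), (3, false)], [(2, false), (3, false)], [(4, false)]]

/-- The points fixed by the centre of `R`. -/
def zFix : List ℕ :=
  [0, 439, 440, 717, 718, 1599, 1600, 1602, 1603, 1609, 1610, 2350, 2351, 3571, 3572, 3576, 3577, 3578, 3580, 3581, 3582, 3583, 3584, 3585, 3776, 3865, 3866, 3867, 3902, 3903, 3904]

/-- Orbits of `F` separating it in `R2`. -/
def fOrbs : List (List ℕ) :=
  [[133, 556, 551, 596, 881], [439, 3904, 440, 717, 718]]

/-- The Levi root normalises `R`. -/
def nbR : List (List (ℕ × Bool)) :=
  [[(1, false), (1, false), (3, false), (4, false), (0, false), (4, false), (4, false), (4, false)], [(2, false), (2, false), (3, false), (1, false), (4, false)], [(2, false)], [(3, false), (4, false), (4, false)], [(4, false)]]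

/-- The other negative root normalises `R2`. -/
def nsR2 : List (List (ℕ × Bool)) :=
  [[(0, false)], [(4, false), (0, false), (4, false), (1, false), (0, false), (0, false), (0, false)], [(2, false), (3, false), (3, false), (3, false)], [(3, false)], [(4, false)]]

/-- The generators of `P` in six root and torus elements. -/
def letterExpr : List (List (ℕ × Bool)) :=
  [[(2, false), (2, false), (3, false), (3, false), (3, false), (0, false), (4, false), (0, false), (0, false)], [(0, false)], [(0, false), (2, false), (1, false), (0, false), (2, false), (1, false), (0, false), (2, false), (1, false), (1, false), (0, false), (0, false), (1, false), (2, false)], [(1, false), (0, false), (3, false), (0, false), (1, false), (1, false), (1, false), (1, false), (0, false), (0, false), (1, false), (1, false), (3, false), (5, false), (1, false), (1, false), (4, false), (3, false), (0, false), (5, false), (4, false), (5, false), (1, false), (0, false), (1, false)], [(0, false), (1, false), (1, false), (0, false), (1, false), (0, false), (1, false), (0, false), (1, false), (1, false), (0, false), (1, false), (3, false), (5, false), (1, false), (1, false)]]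

/-- `S` in the two simple roots. -/
def sPair : List (List (ℕ × Bool)) :=
  [[(0, false)], [(1, false), (1, false), (0, false), (1, false), (0, false), (1, false), (1, false), (1, false), (1, false), (0, false), (1, false), (1, false), (0, false), (0, false), (1, false)], [(0, false), (0, false), (0, false), (1, false), (0, false), (0, false), (1, false), (0, false), (0, false), (1, false), (0, false), (0, false), (0, false), (1, false), (1, false)], [(0, false), (1, false), (0, false), (1, false), (0, false), (1, false), (0, false), (1, false), (0, false), (1, false)], [(0, false), (0, false), (0, false), (0, false), (1, false), (0, false), (0, false), (1, false), (1, false), (1, false), (0, false), (1, false), (1, false), (0, false), (0, false), (1, false), (1, false), (1, false), (0, false), (1, false)], [(1, false)]]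

end Cfsg.Agent.Lib.CosetEnum.LyRep.Out
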