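import Cfsg.Agent.Lib.CosetEnum.LyRep.Out.Kit
import Cfsg.Agent.Lib.CosetEnum.LyRep.Out.Data
import Cfsg.Agent.Lib.CosetEnum.LyP.Dce.KCover

/-! The checks on the certificate data for the automorphisms of the presented Lyons group. -/

set_option autoImplicit false
set_option maxRecDepth 100000
set_option Elab.async false

namespace Cfsg.Agent.Lib.CosetEnum.LyRep.Out

open Cfsg.Agent.Lib.CosetEnum Cfsg.Agent.Lib.CosetEnum.LyP Cfsg.Agent.Lib.CosetEnum.LyP.Dce
open Cfsg.Agent.Lib.ExactCover

/-- Root elements of `R`. -/
def rRoots : List (List ℕ) := sRoots.tail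

/-- The generators of `B0`. -/
def b0Gens : List (List ℕ) := sRoots ++ [tW, uW2]

/-- The torus element with two exponents. -/
def tw (i j : ℕ) : List ℕ := (List.replicate i tW).flatten ++ (List.replicate j uW2).flatten

/-- Conjugates of scaled roots as expressions. -/
def chiExpr (cs : List ℕ) : List (List (ℕ × Bool)) :=
  (List.range cs.length).map fun i => List.replicate (cs.getD i 0) (i, false)

/-- The six elements generating `P`. -/
def sixGens : List (List ℕ) := [[2], usW, tW, uW2, nbW, nsW]

/-- The words move some point of the list. -/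
noncomputable def movesSome (w : List ℕ) (pts : List ℕ) : Bool :=
  pts.any fun y => !Nat.beq (scan 10 table w y) y

/-- The word maps some point of a set out of it. -/
noncomputable def leaves (w : List ℕ) (O : List ℕ) : Bool :=
  O.any fun y => !O.contains (scan 10 table w y)

/-- Commutator word `v⁻¹ L v L⁻¹`. -/
def commW (v L : List ℕ) : List ℕ := invWord v ++ L ++ v ++ invWord L

theorem sTower_ok : towerOK sRoots sTower = true := by decide +kernel

theorem rTower_ok : towerOK rRoots sTower.tail = true := by decide +kernel

theorem r2Tower_ok : towerOK r2Roots r2Tower = true := by decide +kernel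

theorem sChi_t : chiOK tW sRoots (sChi.map Prod.fst) = true := by decide +kernel

theorem sChi_u : chiOK uW2 sRoots (sChi.map Prod.snd) = true := by decide +kernel

theorem r2Chi_t : chiOK tW r2Roots (r2Chi.map Prod.fst) = true := by decide +kernel

theorem r2Chi_u : chiOK uW2 r2Roots (r2Chi.map Prod.snd) = true := by decide +kernel

theorem tuS : normsOK [tW, uW2] sRoots (chiExpr (sChi.map Prod.fst) ++ chiExpr (sChi.map Prod.snd)) = true := by
  decide +kernel

theorem tuR : normsOK [tW, uW2] rRoots
    (chiExpr (sChi.tail.map Prod.fst) ++ chiExpr (sChi.tail.map Prod.snd)) = true := by decide +kernel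

theorem tuR2 : normsOK [tW, uW2] r2Roots
    (chiExpr (r2Chi.map Prod.fst) ++ chiExpr (r2Chi.map Prod.snd)) = true := by decide +kernel

theorem usR2_ok : normOK usW r2Roots usR2 = true := by decide +kernel

theorem ubR_ok : normOK [2] rRoots (sTower.getD 0 ([], 0, [])).1 = true := by decide +kernel

theorem tu_facts : (wordEq (tW ++ uW2) (uW2 ++ tW) && wordEq (List.replicate 4 tW).flatten [] &&
    wordEq (List.replicate 4 uW2).flatten []) = true := by decide +kernel

theorem tw_inj_ok : ((List.range 16).all fun a => (List.range a).all fun b =>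
    !wordEq (tw (a / 4) (a % 4)) (tw (b / 4) (b % 4))) = true := by decide +kernel

theorem r2_sub : (r2Roots.all fun w => sRoots.contains w) = true := by decide +kernel

theorem r_sub : (rRoots.all fun w => sRoots.contains w) = true := by decide +kernel

theorem us_mem : usW ∈ sRoots ∧ [2] ∈ sRoots ∧ [2] ∈ r2Roots ∧ usW ∈ rRoots := by decide +kernel

theorem sPair_ok : subOK [[2], usW] sRoots sPair = true := by decide +kernel

theorem rPair_ok : (subOK [[2], usW] rRoots rFromPair &&
    rFromPair.all fun l => Nat.beq (((l.map Prod.fst).count 0) % 5) 0 &&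
      l.all fun q => !q.2 && Nat.blt q.1 2) = true := by decide +kernel

theorem r2Pair_ok : (subOK [[2], usW] r2Roots r2FromPair &&
    r2FromPair.all fun l => Nat.beq (((l.map Prod.fst).count 1) % 5) 0 &&
      l.all fun q => !q.2 && Nat.blt q.1 2) = true := by decide +kernel

theorem bClose_ok : ((List.range 6).all fun k => (List.range (fibre.r ++ kData.kGen).length).all fun g =>
    let q := (bClose.getD k []).getD g (0, [])
    Nat.blt q.1 6 && inGen b0Gens
      (bReps.getD k [] ++ (fibre.r ++ kData.kGen).getD g [] ++ invWord (bReps.getD q.1 [])) q.2) = true := by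
  decide +kernel

theorem bReps_ok : (bReps.all fun r => okWord r && Nat.beq (scan 10 table r 0) 0) = true ∧
    bReps.length = 6 ∧ bReps.getD 0 [] = [] := by decide +kernel

theorem fix0_ok : (b0Gens.all fun g => okWord g && Nat.beq (scan 10 table g 0) 0) = true := by decide +kernel

theorem rFix_ok : ((List.range 3906).all fun y =>
    Nat.beq y 0 || rRoots.any fun g => !Nat.beq (scan 10 table g y) y) = true := by decide +kernel

theorem r2Fix_ok : ((List.range 3906).all fun y =>
    r2Fix.contains y || r2Roots.any fun g => !Nat.beq (scan 10 table g y) y) = true := by decide +kernel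

theorem r2Fixed : (r2Fix.all fun y =>
    Nat.blt y 3906 && r2Roots.all fun g => Nat.beq (scan 10 table g y) y) = true := by decide +kernel

theorem us_moves : movesSome usW r2Fix = true := by decide +kernel

theorem sOrb_ok : (sOrb.all fun y =>
    Nat.blt y 3906 && sRoots.all fun g => sOrb.contains (scan 10 table g y)) = true := by decide +kernel

theorem sWit_ok : ((List.range 6).all fun k => Nat.beq k 0 ||
    sRoots.any fun v => leaves (bReps.getD k [] ++ v ++ invWord (bReps.getD k [])) sOrb) = true := by
  decide +kernel

theorem r2Wit_ok : ((List.range 6).all fun k => Nat.beq k 0 ||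
    r2Roots.any fun v => movesSome (bReps.getD k [] ++ v ++ invWord (bReps.getD k [])) r2Fix) = true := by
  decide +kernel

theorem line_ok : (normsOK lineReps r2Roots lineNorm &&
    Nat.beq lineReps.length 6 && (List.range 6).all fun k =>
      Nat.beq (scan 10 table (lineReps.getD k []) 0) (r2Fix.getD k 0) && okWord (lineReps.getD k [])) = true := by
  decide +kernel

theorem line_len : r2Fix.length = 6 ∧ lineReps.getD 0 [] = [] := by decide +kernel

theorem zComm_ok : (normsOK rRoots zRoots ((List.range 5).map fun _ => [(0, false)]) &&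
    (List.range 5).all fun a => (List.range 5).all fun b =>
      inGen zRoots (invWord (rRoots.getD a []) ++ invWord (rRoots.getD b []) ++ rRoots.getD a [] ++
        rRoots.getD b []) (zComm.getD (a * 5 + b) [])) = true := by decide +kernel

theorem fComm_ok : (normsOK r2Roots fRoots fR2 &&
    (List.range 5).all fun a => (List.range 5).all fun b =>
      inGen fRoots (invWord (r2Roots.getD a []) ++ invWord (r2Roots.getD b []) ++ r2Roots.getD a [] ++
        r2Roots.getD b []) (fComm.getD (a * 5 + b) [])) = true := by decide +kernel

/-- The chosen commutators of `R2`. -/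
def r2c (k : ℕ) : List ℕ :=
  let p := r2Pairs.getD k (0, 0)
  invWord (r2Roots.getD p.1 []) ++ invWord (r2Roots.getD p.2 []) ++ r2Roots.getD p.1 [] ++
    r2Roots.getD p.2 []

theorem r2Pairs_ok : (!wordEq (r2c 0) [] &&
    (List.range 5).all fun i => !wordEq (r2c 1) (List.replicate i (r2c 0)).flatten) = true := by
  decide +kernel

theorem z_pow5 : wordEq (List.replicate 5 (zRoots.getD 0 [])).flatten [] = true := by decide +kernel

theorem zFix_ok : (zFix.all fun y =>
    Nat.blt y 3906 && zRoots.all fun g => Nat.beq (scan 10 table g y) y) = true := by decide +kernel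

theorem fOrbs_ok : (fOrbs.all fun O => O.all fun y =>
    Nat.blt y 3906 && fRoots.all fun g => O.contains (scan 10 table g y)) = true := by decide +kernel

theorem rCoset_ok : ((List.range 5).all fun e => (List.range 4).all fun i => (List.range 4).all fun j =>
    (List.range 6).all fun k => (Nat.beq e 0 && Nat.beq i 0 && Nat.beq j 0 && Nat.beq k 0) ||
      rRoots.any fun v => movesSome
        (commW v ((List.replicate e [2]).flatten ++ tw i j ++ bReps.getD k [])) zFix) = true := by
  decide +kernel

theorem r2Coset_ok : ((List.range 5).all fun e => (List.range 4).all fun i => (List.range 4).all fun j =>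
    (List.range 6).all fun k => (Nat.beq e 0 && Nat.beq i 0 && Nat.beq j 0 && Nat.beq k 0) ||
      r2Roots.any fun v => fOrbs.any fun O => leaves
        (commW v ((List.replicate e usW).flatten ++ tw i j ++ lineReps.getD k [])) O) = true := by
  decide +kernel

theorem rCentre_ok : ((exps 5).all fun e => decide (e = [0, 0, e.getD 2 0, 0, 0]) ||
    rRoots.any fun v => !wordEq (nfW rRoots e ++ v) (v ++ nfW rRoots e)) = true := by decide +kernel

theorem r2Centre_ok : ((exps 5).all fun e => decide (e = [0, 0, e.getD 2 0, e.getD 3 0, 0]) ||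
    r2Roots.any fun v => !wordEq (nfW r2Roots e ++ v) (v ++ nfW r2Roots e)) = true := by decide +kernel

theorem scaleS_ok : ((exps 6).all fun e =>
    (!decide (scale (sChi.map Prod.fst) e = e) || decide (e = [e.getD 0 0, 0, 0, 0, 0, 0])) &&
    (!decide (scale (sChi.map Prod.snd) e = e) || decide (e = [0, 0, 0, 0, 0, e.getD 5 0]))) = true := by
  decide +kernel

theorem scaleR2_ok : ((exps 5).all fun e => !decide (e = [0, 0, e.getD 2 0, e.getD 3 0, 0]) ||
    !decide (scale (r2Chi.map Prod.snd) e = e) || decide (e = [0, 0, 0, 0, 0])) = true := by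
  decide +kernel

theorem torus_surj : ((List.range 5).all fun a => (List.range 5).all fun b =>
    Nat.beq a 0 || Nat.beq b 0 || (List.range 4).any fun i => (List.range 4).any fun j =>
      Nat.beq ((sChi.getD 0 (0, 0)).1 ^ i * (sChi.getD 0 (0, 0)).2 ^ j % 5) a &&
        Nat.beq ((sChi.getD 5 (0, 0)).1 ^ i * (sChi.getD 5 (0, 0)).2 ^ j % 5) b) = true := by decide +kernel

theorem torus_inj : ((List.range 16).all fun a => (List.range a).all fun b =>
    !(Nat.beq ((sChi.getD 0 (0, 0)).1 ^ (a / 4) * (sChi.getD 0 (0, 0)).2 ^ (a % 4) % 5)
        ((sChi.getD 0 (0, 0)).1 ^ (b / 4) * (sChi.getD 0 (0, 0)).2 ^ (b % 4) % 5) &&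
      Nat.beq ((sChi.getD 5 (0, 0)).1 ^ (a / 4) * (sChi.getD 5 (0, 0)).2 ^ (a % 4) % 5)
        ((sChi.getD 5 (0, 0)).1 ^ (b / 4) * (sChi.getD 5 (0, 0)).2 ^ (b % 4) % 5))) = true := by decide +kernel

theorem rK_ok : ((List.range 5).all fun i => okK kData (rInK.getD i []) &&
    wordEq (rRoots.getD i []) (kExp kData (rInK.getD i [])) &&
    inGen rRoots (thExp kData (rInK.getD i [])) (thR.getD i [])) = true := by decide +kernel

theorem kNormR_ok : normsOK kData.kGen rRoots kNormR = true := by decide +kernel

/-- The number of fixed points of a word. -/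
noncomputable def fixCount (w : List ℕ) : ℕ :=
  ((List.range 3906).filter fun y => Nat.beq (scan 10 table w y) y).length

theorem fibTest_ok : ((List.range 5).all fun j => okK kData (fibConj.getD j []) &&
    inGen rRoots (fibTest.getD j []) (fibTestR.getD j []) &&
    wordEq (invWord (fibre.r.getD j []) ++ fibTest.getD j [] ++ fibre.r.getD j [])
      (kExp kData (fibConj.getD j [])) && okWord (thExp kData (fibConj.getD j [])) &&
    !Nat.beq (fixCount (thExp kData (fibConj.getD j []))) (fixCount (fibTest.getD j []))) = true := by
  decide +kernel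

theorem letters_ok : subOK sixGens [[0], [2], [4], [6], [8]] letterExpr = true := by decide +kernel

theorem nbR_ok : normOK nbW rRoots nbR = true := by decide +kernel

theorem nsR2_ok : normOK nsW r2Roots nsR2 = true := by decide +kernel

theorem comm_ok : (wordEq (nbW ++ tW) (tW ++ nbW) && wordEq (nsW ++ uW2) (uW2 ++ nsW) &&
    (List.range 5).all fun i => Nat.beq i 0 ||
      (!wordEq ((List.replicate i (zRoots.getD 0 [])).flatten ++ tW)
          (tW ++ (List.replicate i (zRoots.getD 0 [])).flatten) &&
        !wordEq ((List.replicate i (zRoots.getD 0 [])).flatten ++ [0])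
          ([0] ++ (List.replicate i (zRoots.getD 0 [])).flatten))) = true := by decide +kernel

end Cfsg.Agent.Lib.CosetEnum.LyRep.Out
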