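import Cfsg.Agent.Lib.CosetEnum.LyP.Dce.Deriv

/-!
Tools for subgroups of `P` given by generators: normalising elements, subgroups built by steps of order
five with a normal form, and elements scaling that normal form.
-/

set_option autoImplicit false
set_option maxRecDepth 100000
set_option Elab.async false

namespace Cfsg.Agent.Lib.CosetEnum.LyRep.Out

open Cfsg.Agent.Lib.CosetEnum Cfsg.Agent.Lib.CosetEnum.LyP Cfsg.Agent.Lib.CosetEnum.LyP.Dce
open Cfsg.Agent.Lib.ExactCover

/-- The group `P`. -/
abbrev P := PresentedGroup pres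

theorem wordEq_of_val {u v : List ℕ} (hu : okWord u = true) (hv : okWord v = true)
    (h : val u = val v) : wordEq u v = true := by
  simp only [wordEq, hu, hv, Bool.true_and, List.all_eq_true, Nat.beq_eq]
  intro b hb
  have hb' : b < 3906 := by
    simp only [List.mem_cons, List.not_mem_nil, or_false] at hb; omega
  rw [← imgPt_word u hu hb', ← imgPt_word v hv hb', h]

theorem val_ne {u v : List ℕ} (hu : okWord u = true) (hv : okWord v = true)
    (h : wordEq u v = false) : val u ≠ val v := fun e => by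
  rw [wordEq_of_val hu hv e] at h; exact Bool.noConfusion h

theorem okWord_rep {u : List ℕ} (h : okWord u = true) : ∀ n, okWord (List.replicate n u).flatten = true
  | 0 => rfl
  | n + 1 => by rw [List.replicate_succ, List.flatten_cons]; exact okWord_append h (okWord_rep h n)

theorem val_rep (u : List ℕ) : ∀ n, val (List.replicate n u).flatten = val u ^ n
  | 0 => by simp [val_nil]
  | n + 1 => by rw [List.replicate_succ, List.flatten_cons, val_append, val_rep u n, pow_succ']

theorem imgPt_lt' (p : P) (x : ℕ) : imgPt p x < 3906 := imgPt_lt p x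

theorem imgPt_inv {p : P} {x y : ℕ} (hx : x < 3906) (h : imgPt p x = y) : imgPt p⁻¹ y = x := by
  rw [← h, ← imgPt_mul _ _ hx, mul_inv_cancel, imgPt_one hx]

theorem imgPt_inj {p : P} {x y : ℕ} (hx : x < 3906) (hy : y < 3906) (h : imgPt p x = imgPt p y) :
    x = y := by
  rw [← imgPt_inv hx h, imgPt_inv hy rfl]

theorem conj_pow_mem {G : Type*} [Group G] {H : Subgroup G} {x : G}
    (h : ∀ v ∈ H, x * v * x⁻¹ ∈ H) : ∀ (n : ℕ) {v : G}, v ∈ H → x ^ n * v * (x ^ n)⁻¹ ∈ H
  | 0, v, hv => by simpa using hv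
  | n + 1, v, hv => by
    have h1 := h _ (conj_pow_mem h n hv)
    rw [pow_succ']
    simpa [mul_assoc] using h1

theorem conj_inv_mem {G : Type*} [Group G] [Finite G] {H : Subgroup G} {x : G}
    (h : ∀ v ∈ H, x * v * x⁻¹ ∈ H) {v : G} (hv : v ∈ H) : x⁻¹ * v * x ∈ H := by
  have he : x⁻¹ = x ^ (orderOf x - 1) := by
    refine inv_eq_of_mul_eq_one_right ?_
    rw [← pow_succ', Nat.sub_add_cancel (orderOf_pos x), pow_orderOf_eq_one]
  have h1 := conj_pow_mem h (orderOf x - 1) hv
  rwa [← he, inv_inv] at h1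

/-- The word is the given product of generators. -/
noncomputable def inGen (gens : List (List ℕ)) (w : List ℕ) (e : List (ℕ × Bool)) : Bool :=
  gens.all okWord && wordEq w (genWord gens e)

theorem mem_of_inGen {gens : List (List ℕ)} {w : List ℕ} {e : List (ℕ × Bool)}
    (h : inGen gens w e = true) : val w ∈ genGroup gens := by
  simp only [inGen, Bool.and_eq_true, List.all_eq_true] at h
  rw [val_eq_of_wordEq h.2]
  exact (genWord_spec h.1 e).2

theorem okWord_of_inGen {gens : List (List ℕ)} {w : List ℕ} {e : List (ℕ × Bool)}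
    (h : inGen gens w e = true) : okWord w = true := by
  simp only [inGen, Bool.and_eq_true] at h
  exact (okWord_of_wordEq h.2).1

/-- All the words lie in the subgroup of the generators. -/
noncomputable def subOK (gens ws : List (List ℕ)) (es : List (List (ℕ × Bool))) : Bool :=
  (List.range ws.length).all fun i => inGen gens (ws.getD i []) (es.getD i [])

theorem mem_of_subOK {gens ws : List (List ℕ)} {es : List (List (ℕ × Bool))}
    (h : subOK gens ws es = true) {w : List ℕ} (hw : w ∈ ws) : val w ∈ genGroup gens := by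
  obtain ⟨i, hi, rfl⟩ := List.mem_iff_getElem.1 hw
  have h1 := List.all_eq_true.1 h i (List.mem_range.2 hi)
  rw [List.getD_eq_getElem _ _ hi] at h1
  exact mem_of_inGen h1

theorem le_of_subOK {gens ws : List (List ℕ)} {es : List (List (ℕ × Bool))}
    (h : subOK gens ws es = true) : genGroup ws ≤ genGroup gens := by
  refine (Subgroup.closure_le _).2 ?_
  rintro _ ⟨w, hw, rfl⟩
  exact mem_of_subOK h hw

theorem gen_mem {gens : List (List ℕ)} {w : List ℕ} (h : w ∈ gens) : val w ∈ genGroup gens :=
  Subgroup.subset_closure ⟨w, h, rfl⟩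

/-- The word normalises the subgroup of the generators. -/
noncomputable def normOK (x : List ℕ) (gens : List (List ℕ)) (es : List (List (ℕ × Bool))) : Bool :=
  okWord x && (List.range gens.length).all fun i =>
    inGen gens (x ++ gens.getD i [] ++ invWord x) (es.getD i [])

theorem norm_mem {x : List ℕ} {gens : List (List ℕ)} {es : List (List (ℕ × Bool))}
    (h : normOK x gens es = true) {v : P} (hv : v ∈ genGroup gens) :
    val x * v * (val x)⁻¹ ∈ genGroup gens := by
  haveI := finite
  simp only [normOK, Bool.and_eq_true, List.all_eq_true, List.mem_range] at h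
  refine closure_induction_mul (p := fun v => val x * v * (val x)⁻¹ ∈ genGroup gens) ?_ (by simp) ?_ hv
  · rintro _ ⟨w, hw, rfl⟩
    obtain ⟨i, hi, rfl⟩ := List.mem_iff_getElem.1 hw
    have h1 := mem_of_inGen (h.2 i hi)
    rw [List.getD_eq_getElem _ _ hi, val_append, val_append, val_invWord x h.1] at h1
    exact h1
  · intro a b ha hb
    have := mul_mem ha hb
    simpa [mul_assoc] using this

theorem norm_inv_mem {x : List ℕ} {gens : List (List ℕ)} {es : List (List (ℕ × Bool))}
    (h : normOK x gens es = true) {v : P} (hv : v ∈ genGroup gens) :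
    (val x)⁻¹ * v * val x ∈ genGroup gens := by
  haveI := finite
  exact conj_inv_mem (fun w hw => norm_mem h hw) hv

/-- A list of words each normalising the subgroup of `gens`, the expressions word by word. -/
noncomputable def normsOK (xs gens : List (List ℕ)) (es : List (List (ℕ × Bool))) : Bool :=
  (List.range xs.length).all fun j =>
    normOK (xs.getD j []) gens ((List.range gens.length).map fun i => es.getD (j * gens.length + i) [])

theorem norms_mem {xs gens : List (List ℕ)} {es : List (List (ℕ × Bool))}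
    (h : normsOK xs gens es = true) {x : List ℕ} (hx : x ∈ xs) {v : P} (hv : v ∈ genGroup gens) :
    val x * v * (val x)⁻¹ ∈ genGroup gens := by
  obtain ⟨j, hj, rfl⟩ := List.mem_iff_getElem.1 hx
  have h1 := List.all_eq_true.1 h j (List.mem_range.2 hj)
  rw [List.getD_eq_getElem _ _ hj] at h1
  exact norm_mem h1 hv

theorem group_norm {xs gens : List (List ℕ)} {es : List (List (ℕ × Bool))}
    (h : normsOK xs gens es = true) {g v : P} (hg : g ∈ genGroup xs) (hv : v ∈ genGroup gens) :
    g * v * g⁻¹ ∈ genGroup gens := by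
  haveI := finite
  revert v
  refine closure_induction_mul (p := fun g => ∀ {v : P}, v ∈ genGroup gens → g * v * g⁻¹ ∈ genGroup gens)
    ?_ (fun hv => by simpa using hv) ?_ hg
  · rintro _ ⟨w, hw, rfl⟩ v hv
    exact norms_mem h hw hv
  · intro a b ha hb v hv
    have := ha (hb hv)
    simpa [mul_assoc] using this

/-- Elements of a subgroup keep a closed set of points. -/
theorem orbit_mem {gens : List (List ℕ)} {O : List ℕ} (hg : ∀ g ∈ gens, okWord g = true)
    (h : ∀ y ∈ O, y < 3906 ∧ ∀ g ∈ gens, scan 10 table g y ∈ O) {v : P} (hv : v ∈ genGroup gens) :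
    ∀ y ∈ O, imgPt v y ∈ O := by
  haveI := finite
  refine closure_induction_mul (p := fun v => ∀ y ∈ O, imgPt v y ∈ O) ?_ ?_ ?_ hv
  · rintro _ ⟨w, hw, rfl⟩ y hy
    rw [imgPt_word w (hg w hw) (h y hy).1]
    exact (h y hy).2 w hw
  · intro y hy; rw [imgPt_one (h y hy).1]; exact hy
  · intro a b ha hb y hy
    rw [imgPt_mul _ _ (h y hy).1]
    exact hb _ (ha y hy)

section Cyc

variable {G : Type*} [Group G] {N : Subgroup G} {u : G}

theorem cyc_inj (h5 : u ^ 5 = 1) (hu : u ∉ N) {a b : ℕ} {n n' : G} (hn : n ∈ N) (hn' : n' ∈ N)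
    (e : u ^ a * n = u ^ b * n') : a % 5 = b % 5 := by
  have hmod : ∀ m, u ^ m = u ^ (m % 5) := fun m => by
    conv_lhs => rw [← Nat.mod_add_div m 5, pow_add, pow_mul, h5, one_pow, mul_one]
  have hc : u ^ (4 * b + a) ∈ N := by
    have h1 : u ^ (4 * b + a) = n' * n⁻¹ := by
      calc u ^ (4 * b + a) = u ^ (4 * b) * (u ^ a * n) * n⁻¹ := by rw [pow_add]; group
        _ = u ^ (4 * b + b) * (n' * n⁻¹) := by rw [e, pow_add]; group
        _ = _ := by rw [show 4 * b + b = 5 * b by ring, pow_mul, h5, one_pow, one_mul]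
    rw [h1]; exact N.mul_mem hn' (N.inv_mem hn)
  rw [hmod] at hc
  by_contra hne
  have hlt : (4 * b + a) % 5 < 5 := Nat.mod_lt _ (by norm_num)
  have h0 : (4 * b + a) % 5 ≠ 0 := by omega
  refine hu ?_
  obtain ⟨d, hd⟩ : ∃ d, (4 * b + a) % 5 * d % 5 = 1 := by
    generalize (4 * b + a) % 5 = c at hlt h0
    interval_cases c <;>
      first | exact absurd rfl h0 | exact ⟨1, rfl⟩ | exact ⟨3, rfl⟩ | exact ⟨2, rfl⟩ | exact ⟨4, rfl⟩
  have h1 := N.pow_mem hc d
  rwa [← pow_mul, hmod, hd, pow_one] at h1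

theorem cyc_mul [Finite G] (hN : ∀ v ∈ N, u * v * u⁻¹ ∈ N) {a b : ℕ} {n m : G} (hn : n ∈ N)
    (hm : m ∈ N) : ∃ k ∈ N, u ^ a * n * (u ^ b * m) = u ^ (a + b) * k := by
  refine ⟨(u ^ b)⁻¹ * n * u ^ b * m, N.mul_mem ?_ hm, by rw [pow_add]; group⟩
  exact conj_inv_mem (fun v hv => conj_pow_mem hN b hv) hn

theorem cyc_pow [Finite G] (hN : ∀ v ∈ N, u * v * u⁻¹ ∈ N) {a : ℕ} {n : G} (hn : n ∈ N) :
    ∀ m : ℕ, ∃ k ∈ N, (u ^ a * n) ^ m = u ^ (a * m) * k
  | 0 => ⟨1, N.one_mem, by simp⟩
  | m + 1 => by
    obtain ⟨k, hk, e⟩ := cyc_pow hN hn m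
    obtain ⟨l, hl, e'⟩ := cyc_mul hN hk hn (a := a * m) (b := a)
    exact ⟨l, hl, by rw [pow_succ, e, e', Nat.mul_succ]⟩

end Cyc

/-- One step: `u` of order five normalises the rest and moves a point out of an orbit of the rest. -/
noncomputable def stepOK (u : List ℕ) (rest : List (List ℕ))
    (d : List (List (ℕ × Bool)) × ℕ × List ℕ) : Bool :=
  normOK u rest d.1 && wordEq (List.replicate 5 u).flatten [] && d.2.2.contains d.2.1 &&
    rest.all okWord &&
    (d.2.2.all fun y => Nat.blt y 3906 && rest.all fun g => d.2.2.contains (scan 10 table g y)) &&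
    !d.2.2.contains (scan 10 table u d.2.1)

/-- All steps. -/
noncomputable def towerOK : List (List ℕ) → List (List (List (ℕ × Bool)) × ℕ × List ℕ) → Bool
  | [], [] => true
  | u :: rest, d :: ds => stepOK u rest d && towerOK rest ds
  | _, _ => false

/-- The exponent vectors. -/
def exps : ℕ → List (List ℕ)
  | 0 => [[]]
  | n + 1 => (List.range 5).flatMap fun a => (exps n).map (a :: ·)

theorem mem_exps_succ {n : ℕ} {e : List ℕ} :
    e ∈ exps (n + 1) ↔ ∃ a < 5, ∃ es ∈ exps n, e = a :: es := by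
  simp only [exps, List.mem_flatMap, List.mem_range, List.mem_map]
  exact ⟨fun ⟨a, ha, es, he, h⟩ => ⟨a, ha, es, he, h.symm⟩, fun ⟨a, ha, es, he, h⟩ => ⟨a, ha, es, he, h.symm⟩⟩

/-- The word of an exponent vector. -/
def nfW : List (List ℕ) → List ℕ → List ℕ
  | u :: us, a :: es => (List.replicate a u).flatten ++ nfW us es
  | _, _ => []

theorem nfW_mem : ∀ (us : List (List ℕ)) (es : List ℕ), (∀ u ∈ us, okWord u = true) →
    okWord (nfW us es) = true ∧ val (nfW us es) ∈ genGroup us
  | [], _, _ => ⟨rfl, by simp [nfW, val_nil]⟩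
  | _ :: _, [], _ => ⟨rfl, by simp [nfW, val_nil]⟩
  | u :: us, a :: es, h => by
    obtain ⟨h1, h2⟩ := nfW_mem us es fun x hx => h x (List.mem_cons_of_mem _ hx)
    have hle : genGroup us ≤ genGroup (u :: us) :=
      Subgroup.closure_mono fun x ⟨s, hs, e⟩ => ⟨s, List.mem_cons_of_mem _ hs, e⟩
    refine ⟨okWord_append (okWord_rep (h u List.mem_cons_self) a) h1, ?_⟩
    rw [nfW, val_append, val_rep]
    exact mul_mem (pow_mem (gen_mem List.mem_cons_self) a) (hle h2)

theorem tower_all_ok : ∀ {us : List (List ℕ)} {ds : List (List (List (ℕ × Bool)) × ℕ × List ℕ)},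
    towerOK us ds = true → ∀ u ∈ us, okWord u = true
  | [], _, _ => by simp
  | u :: rest, [], h => by simp [towerOK] at h
  | u :: rest, d :: ds, h => by
    simp only [towerOK, stepOK, normOK, Bool.and_eq_true] at h
    intro x hx
    rcases List.mem_cons.1 hx with rfl | hx
    · exact h.1.1.1.1.1.1.1
    · exact tower_all_ok h.2 x hx

theorem step_facts {u : List ℕ} {rest : List (List ℕ)} {d : List (List (ℕ × Bool)) × ℕ × List ℕ}
    (h : stepOK u rest d = true) : (∀ v ∈ genGroup rest, val u * v * (val u)⁻¹ ∈ genGroup rest) ∧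
      val u ^ 5 = 1 ∧ val u ∉ genGroup rest := by
  simp only [stepOK, Bool.and_eq_true, List.all_eq_true, Nat.blt_eq, List.contains_iff_mem,
    Bool.not_eq_true', List.contains_eq_mem, decide_eq_true_eq, decide_eq_false_iff_not] at h
  obtain ⟨⟨⟨⟨⟨hn, h5⟩, hx⟩, hok⟩, hO⟩, hout⟩ := h
  refine ⟨fun v hv => norm_mem hn hv, ?_, fun hm => hout ?_⟩
  · rw [← val_rep, ← val_nil]; exact val_eq_of_wordEq h5
  · have hu : okWord u = true := by
      simp only [normOK, Bool.and_eq_true] at hn; exact hn.1
    have := orbit_mem hok hO hm _ hx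
    rwa [imgPt_word u hu (hO _ hx).1] at this

theorem nf_cover : ∀ {us : List (List ℕ)} {ds : List (List (List (ℕ × Bool)) × ℕ × List ℕ)},
    towerOK us ds = true → ∀ v ∈ genGroup us, ∃ e ∈ exps us.length, v = val (nfW us e)
  | [], _, _, v, hv => by
    refine ⟨[], by simp [exps], ?_⟩
    simpa [genGroup, nfW, val_nil] using hv
  | u :: rest, [], h, _, _ => by simp [towerOK] at h
  | u :: rest, d :: ds, h, v, hv => by
    haveI := finite
    simp only [towerOK, Bool.and_eq_true] at h
    obtain ⟨hN, h5, -⟩ := step_facts h.1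
    obtain ⟨a, n, hn, rfl⟩ : ∃ a, ∃ n ∈ genGroup rest, v = val u ^ a * n := by
      refine closure_induction_mul (p := fun v => ∃ a, ∃ n ∈ genGroup rest, v = val u ^ a * n)
        ?_ ⟨0, 1, one_mem _, by simp⟩ ?_ hv
      · rintro _ ⟨s, hs, rfl⟩
        rcases List.mem_cons.1 hs with rfl | hs
        · exact ⟨1, 1, one_mem _, by simp⟩
        · exact ⟨0, val s, gen_mem hs, by simp⟩
      · rintro _ _ ⟨a, n, hn, rfl⟩ ⟨b, m, hm, rfl⟩
        obtain ⟨k, hk, e⟩ := cyc_mul hN hn hm (a := a) (b := b)
        exact ⟨a + b, k, hk, e⟩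
    obtain ⟨es, hes, rfl⟩ := nf_cover h.2 n hn
    refine ⟨a % 5 :: es, mem_exps_succ.2 ⟨_, Nat.mod_lt _ (by norm_num), es, hes, rfl⟩, ?_⟩
    rw [nfW, val_append, val_rep]
    congr 1
    conv_lhs => rw [← Nat.mod_add_div a 5, pow_add, pow_mul, h5, one_pow, mul_one]

theorem nf_inj : ∀ {us : List (List ℕ)} {ds : List (List (List (ℕ × Bool)) × ℕ × List ℕ)},
    towerOK us ds = true → ∀ e ∈ exps us.length, ∀ e' ∈ exps us.length,
      val (nfW us e) = val (nfW us e') → e = e'
  | [], _, _, e, he, e', he', _ => by simp [exps] at he he'; rw [he, he']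
  | u :: rest, [], h, _, _, _, _, _ => by simp [towerOK] at h
  | u :: rest, d :: ds, h, e, he, e', he', heq => by
    simp only [towerOK, Bool.and_eq_true] at h
    obtain ⟨-, h5, hout⟩ := step_facts h.1
    obtain ⟨a, ha, es, hes, rfl⟩ := mem_exps_succ.1 he
    obtain ⟨b, hb, fs, hfs, rfl⟩ := mem_exps_succ.1 he'
    rw [nfW, nfW, val_append, val_append, val_rep, val_rep] at heq
    have hok := tower_all_ok h.2
    have hab := cyc_inj h5 hout (nfW_mem rest es hok).2 (nfW_mem rest fs hok).2 heq
    rw [Nat.mod_eq_of_lt ha, Nat.mod_eq_of_lt hb] at hab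
    subst hab
    rw [nf_inj h.2 es hes fs hfs (mul_left_cancel heq)]

theorem nf_card : ∀ {us : List (List ℕ)} {ds : List (List (List (ℕ × Bool)) × ℕ × List ℕ)},
    towerOK us ds = true → Nat.card (genGroup us) = 5 ^ us.length := by
  intro us ds h
  have hlen : ∀ n, (exps n).length = 5 ^ n := by
    intro n
    induction n with
    | zero => rfl
    | succ n ih => simp [exps, ih, pow_succ']; ring
  have hnd : ∀ n, (exps n).Nodup := by
    intro n
    induction n with
    | zero => simp [exps]
    | succ n ih =>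
      refine List.nodup_flatMap.2 ⟨fun a _ => ih.map fun x y e => (List.cons.inj e).2,
        List.nodup_range.imp ?_⟩
      intro a b hne x hx hy
      simp only [List.mem_map] at hx hy
      obtain ⟨_, -, rfl⟩ := hx
      obtain ⟨_, -, e⟩ := hy
      exact hne (List.cons.inj e).1.symm
  rw [← hlen, ← List.toFinset_card_of_nodup (hnd us.length), ← Nat.card_eq_finsetCard]
  refine (Nat.card_eq_of_bijective (fun e : (exps us.length).toFinset =>
    (⟨val (nfW us e.1), (nfW_mem us e.1 (tower_all_ok h)).2⟩ : genGroup us)) ⟨?_, ?_⟩).symm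
  · intro e e' he
    exact Subtype.ext (nf_inj h _ (List.mem_toFinset.1 e.2) _ (List.mem_toFinset.1 e'.2)
      (congrArg Subtype.val he))
  · rintro ⟨v, hv⟩
    obtain ⟨e, he, rfl⟩ := nf_cover h v hv
    exact ⟨⟨e, List.mem_toFinset.2 he⟩, rfl⟩

/-- The word scales each root by the given exponent. -/
noncomputable def chiOK (h : List ℕ) : List (List ℕ) → List ℕ → Bool
  | [], [] => true
  | u :: us, c :: cs =>
    wordEq (h ++ u ++ invWord h) (List.replicate c u).flatten && wordEq (List.replicate 5 u).flatten [] &&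
      chiOK h us cs
  | _, _ => false

/-- The scaled exponents. -/
def scale : List ℕ → List ℕ → List ℕ
  | c :: cs, a :: es => c * a % 5 :: scale cs es
  | _, _ => []

theorem scale_mem : ∀ (cs : List ℕ) (n : ℕ) (e : List ℕ), cs.length = n → e ∈ exps n →
    scale cs e ∈ exps n
  | [], n, e, hn, he => by subst hn; simp [exps] at he ⊢; simp [he, scale]
  | c :: cs, n, e, hn, he => by
    obtain ⟨m, rfl⟩ : ∃ m, n = m + 1 := ⟨cs.length, by simpa using hn.symm⟩
    obtain ⟨a, ha, es, hes, rfl⟩ := mem_exps_succ.1 he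
    exact mem_exps_succ.2 ⟨_, Nat.mod_lt _ (by norm_num), _,
      scale_mem cs m es (by simpa using hn) hes, rfl⟩

theorem chiOK_len {h : List ℕ} : ∀ {us : List (List ℕ)} {cs : List ℕ},
    chiOK h us cs = true → cs.length = us.length
  | [], [], _ => rfl
  | [], _ :: _, e => by simp [chiOK] at e
  | _ :: _, [], e => by simp [chiOK] at e
  | u :: us, c :: cs, e => by
    simp only [chiOK, Bool.and_eq_true] at e
    simp [chiOK_len e.2]

theorem conj_nf {h : List ℕ} (hh : okWord h = true) : ∀ {us : List (List ℕ)} {cs : List ℕ},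
    chiOK h us cs = true → ∀ e ∈ exps us.length,
      val h * val (nfW us e) * (val h)⁻¹ = val (nfW us (scale cs e))
  | [], [], _, e, he => by simp [exps] at he; simp [he, nfW, scale, val_nil]
  | [], _ :: _, hc, _, _ => by simp [chiOK] at hc
  | _ :: _, [], hc, _, _ => by simp [chiOK] at hc
  | u :: us, c :: cs, hc, e, he => by
    simp only [chiOK, Bool.and_eq_true] at hc
    obtain ⟨a, ha, es, hes, rfl⟩ := mem_exps_succ.1 he
    have h1 := val_eq_of_wordEq hc.1.1
    rw [val_append, val_append, val_invWord h hh, val_rep] at h1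
    have h5 := val_eq_of_wordEq hc.1.2
    rw [val_rep, val_nil] at h5
    have e1 : val h * val u ^ a * (val h)⁻¹ = val u ^ (c * a % 5) := by
      rw [← conj_pow, h1, ← pow_mul]
      conv_lhs => rw [← Nat.mod_add_div (c * a) 5, pow_add, pow_mul, h5, one_pow, mul_one]
    rw [nfW, scale, nfW, val_append, val_append, val_rep, val_rep, ← e1, ← conj_nf hh hc.2 es hes]
    group

theorem cent_nf {h : List ℕ} (hh : okWord h = true) {us : List (List ℕ)}
    {ds : List (List (List (ℕ × Bool)) × ℕ × List ℕ)} {cs : List ℕ}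
    (ht : towerOK us ds = true) (hc : chiOK h us cs = true) {v : P} (hv : v ∈ genGroup us)
    (hcomm : val h * v = v * val h) :
    ∃ e ∈ exps us.length, v = val (nfW us e) ∧ scale cs e = e := by
  obtain ⟨e, he, rfl⟩ := nf_cover ht v hv
  refine ⟨e, he, rfl, nf_inj ht _ (scale_mem cs _ e (chiOK_len hc) he) _ he ?_⟩
  rw [← conj_nf hh hc e he, hcomm, mul_inv_cancel_right]

end Cfsg.Agent.Lib.CosetEnum.LyRep.Out
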