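import Cfsg.Agent.Lib.CosetEnum.LyRep.Out.PFacts
import Cfsg.Agent.Lib.CosetEnum.LyRep.Stab

/-!
Centralisers and normalisers in the presented Lyons group of subgroups of the image of `P`, from the exact
stabilisers of the five suborbits.
-/

set_option autoImplicit false
set_option maxRecDepth 100000
set_option Elab.async false

namespace Cfsg.Agent.Lib.CosetEnum.LyRep.Out

open Cfsg.Spor Cfsg.Agent.Lib.CosetEnum Cfsg.Agent.Lib.CosetEnum.LyP Cfsg.Agent.Lib.CosetEnum.LyP.Dce
open Cfsg.Agent.Lib.ExactCover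

theorem fix_node {H : Subgroup P} {g : Ly}
    (h : ∀ v ∈ H, g⁻¹ * toLy v * g ∈ toLy.range) :
    ∃ i < 5, ∃ p q : P, g = toLy q⁻¹ * (gLy i)⁻¹ * toLy p⁻¹ ∧ ∀ v ∈ H, q * v * q⁻¹ ∈ fullCert.stab i := by
  obtain ⟨i, hi, p, q, e⟩ := Dce.cover g⁻¹
  refine ⟨i, hi, p, q, by rw [← inv_inv g, e, map_inv, map_inv]; group, fun v hv => ?_⟩
  have h1 : gLy i * toLy (q * v * q⁻¹) * (gLy i)⁻¹ ∈ toLy.range := by
    have h2 := toLy.range.mul_mem (toLy.range.mul_mem (toLy.range.inv_mem ⟨p, rfl⟩) (h v hv))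
      (⟨p, rfl⟩ : toLy p ∈ toLy.range)
    rw [show g⁻¹ = toLy p * gLy i * toLy q from e,
      show g = (toLy p * gLy i * toLy q)⁻¹ from by rw [← e, inv_inv]] at h2
    simpa [mul_assoc] using h2
  have h2 : (⟨toLy (q * v * q⁻¹), _, rfl⟩ : toLy.range) ∈ stab toLy.range (gLy i) := (mem_stab _).2 h1
  rw [stab_eq i hi] at h2
  obtain ⟨w, hw, hwe⟩ := h2
  obtain rfl : w = q * v * q⁻¹ := toLy_injective (congrArg Subtype.val hwe)
  exact hw

theorem card_conj_dvd {H D : Subgroup P} {q : P} (h : ∀ v ∈ H, q * v * q⁻¹ ∈ D) :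
    Nat.card H ∣ Nat.card D := by
  rw [← Subgroup.card_map_of_injective (f := (MulAut.conj q).toMonoidHom) (MulEquiv.injective _)]
  exact Subgroup.card_dvd_of_le (Subgroup.map_le_iff_le_comap.2 fun v hv => h v hv)

theorem node_of_3125 {H : Subgroup P} (hH : 3125 ∣ Nat.card H) {i : ℕ} (hi : i < 5) {q : P}
    (h : ∀ v ∈ H, q * v * q⁻¹ ∈ fullCert.stab i) : i = 0 ∨ i = 1 := by
  haveI := finite
  have hd := hH.trans (card_conj_dvd h)
  have hc := card_stab_mul i hi
  have h2 : 3125 * nodeIndex i ∣ 5859000000 := hc ▸ Nat.mul_dvd_mul_right hd _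
  interval_cases i <;> first | exact Or.inl rfl | exact Or.inr rfl | (revert h2; decide +kernel)

theorem node_of_15625 {H : Subgroup P} (hH : 15625 ∣ Nat.card H) {i : ℕ} (hi : i < 5) {q : P}
    (h : ∀ v ∈ H, q * v * q⁻¹ ∈ fullCert.stab i) : i = 0 := by
  haveI := finite
  have hd := hH.trans (card_conj_dvd h)
  have hc := card_stab_mul i hi
  have h2 : 15625 * nodeIndex i ∣ 5859000000 := hc ▸ Nat.mul_dvd_mul_right hd _
  interval_cases i <;> first | rfl | (revert h2; decide +kernel)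

theorem norm_S_ly {g : Ly} (h : ∀ v ∈ S, ∃ w ∈ S, g⁻¹ * toLy v * g = toLy w) :
    ∃ b ∈ B0, g = toLy b := by
  haveI := finite
  obtain ⟨i, hi, p, q, e, hq⟩ := fix_node (H := S) (g := g) fun v hv => by
    obtain ⟨w, -, hw⟩ := h v hv; exact ⟨w, hw.symm⟩
  obtain rfl := node_of_15625 (by rw [card_S]) hi hq
  rw [gLy_zero, inv_one, mul_one, ← map_mul] at e
  subst e
  refine ⟨q⁻¹ * p⁻¹, ?_, rfl⟩
  have hn : ∀ v ∈ S, (q⁻¹ * p⁻¹)⁻¹ * v * (q⁻¹ * p⁻¹) ∈ S := fun v hv => by
    obtain ⟨w, hw, he⟩ := h v hv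
    rw [← map_inv, ← map_mul, ← map_mul] at he
    rw [toLy_injective he]
    exact hw
  refine inv_mem_iff.1 (norm_S fun v hv => ?_)
  simpa using hn v hv

theorem R_le_K : R ≤ kGroup kData := by
  refine (Subgroup.closure_le _).2 ?_
  rintro _ ⟨w, hw, rfl⟩
  obtain ⟨i, hi, rfl⟩ := List.mem_iff_getElem.1 hw
  have hlen : rRoots.length = 5 := by decide
  have h := rK_ok
  simp only [List.all_eq_true, List.mem_range, Bool.and_eq_true] at h
  have h1 := val_eq_of_wordEq (h i (hlen ▸ hi)).1.2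
  rw [List.getD_eq_getElem _ _ hi] at h1
  rw [SetLike.mem_coe, h1]
  exact kExp_mem kGen_ok _

theorem card_K : Nat.card (kGroup kData) = 300000 := by
  haveI := finite
  have h := (kGroup kData).card_mul_index
  rw [index_K, card_P.1] at h
  omega

theorem K_norm_R {k v : P} (hk : k ∈ kGroup kData) (hv : v ∈ R) : k * v * k⁻¹ ∈ R :=
  group_norm kNormR_ok hk hv

theorem K_pow_R {y : P} (hy : y ∈ kGroup kData) (h : y ^ 3125 = 1) : y ∈ R := by
  haveI := finite
  haveI hn : (R.subgroupOf (kGroup kData)).Normal :=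
    ⟨fun v hv k => by
      rw [Subgroup.mem_subgroupOf] at hv ⊢
      exact K_norm_R k.2 hv⟩
  have hidx : (R.subgroupOf (kGroup kData)).index = 96 := by
    have h1 := (R.subgroupOf (kGroup kData)).card_mul_index
    rw [Nat.card_congr (Subgroup.subgroupOfEquivOfLe R_le_K).toEquiv, card_R, card_K] at h1
    omega
  have h1 := Subgroup.pow_index_mem (R.subgroupOf (kGroup kData)) (⟨y, hy⟩ : kGroup kData)
  rw [hidx, Subgroup.mem_subgroupOf] at h1
  have h2 : y ^ 96 ∈ R := h1
  have h3 := R.pow_mem h2 2181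
  rwa [← pow_mul, show 96 * 2181 = 3125 * 67 + 1 by norm_num, pow_add, pow_mul, h, one_pow, one_mul,
    pow_one] at h3

theorem conj_pow_one {H : Subgroup P} (hH : Nat.card H = 3125) {v : P} (hv : v ∈ H) (q : P) :
    (q * v * q⁻¹) ^ 3125 = 1 := by
  haveI := finite
  have h := pow_card_eq_one' (G := H) (x := ⟨v, hv⟩)
  rw [hH] at h
  rw [conj_pow, show v ^ 3125 = 1 from congrArg Subtype.val h, mul_one, mul_inv_cancel]

theorem kExp_z : ∀ l : List ℕ, okK kData l = true →
    toLy (val (kExp kData l)) * lyZ = lyZ * toLy (val (thExp kData l))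
  | [], _ => by simp [kExp, thExp, genWord, Dce.val_nil]
  | g :: l, hl => by
    simp only [okK, List.all_cons, Bool.and_eq_true, Nat.blt_eq] at hl
    have ih := kExp_z l (by simpa [okK] using hl.2)
    have h := zk_ly (g / 2) hl.1
    have hok : ∀ j < 8, okWord (kData.kGen.getD j []) = true ∧ okWord (kData.thGen.getD j []) = true := by
      decide +kernel
    have hlen : kData.kGen.length = 8 := by decide +kernel
    obtain ⟨o1, o2⟩ := hok _ (hlen ▸ hl.1)
    have e : ∀ (gs : List (List ℕ)), genWord gs ((g :: l).map fun g => (g / 2, Nat.beq (g % 2) 1)) =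
        (bif Nat.beq (g % 2) 1 then invWord (gs.getD (g / 2) []) else gs.getD (g / 2) []) ++
          genWord gs (l.map fun g => (g / 2, Nat.beq (g % 2) 1)) := fun gs => by simp [genWord]
    rw [kExp, thExp, e, e, Dce.val_append, Dce.val_append, map_mul, map_mul, ← kExp, ← thExp]
    rw [mul_assoc, ih, ← mul_assoc, ← mul_assoc]
    congr 1
    cases hb : Nat.beq (g % 2) 1
    · exact h
    · rw [cond_true, cond_true, val_invWord _ o1, val_invWord _ o2, map_inv, map_inv, eq_mul_inv_iff_mul_eq,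
        mul_assoc, ← h, inv_mul_cancel_left]

theorem fixCount_eq (w : List ℕ) (hw : okWord w = true) :
    fixCount w = ((Finset.range 3906).filter fun y => imgPt (val w) y = y).card := by
  rw [fixCount, ← List.toFinset_card_of_nodup (List.nodup_range.filter _)]
  refine congrArg Finset.card (Finset.ext fun y => ?_)
  simp only [List.mem_toFinset, List.mem_filter, List.mem_range, Nat.beq_eq, Finset.mem_filter,
    Finset.mem_range]
  exact ⟨fun h => ⟨h.1, by rw [imgPt_word w hw h.1]; exact h.2⟩,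
    fun h => ⟨h.1, by rw [← imgPt_word w hw h.1]; exact h.2⟩⟩

theorem fix_conj (q v : P) :
    ((Finset.range 3906).filter fun y => imgPt (q * v * q⁻¹) y = y).card =
      ((Finset.range 3906).filter fun y => imgPt v y = y).card := by
  refine Finset.card_bij' (fun y _ => imgPt q y) (fun y _ => imgPt q⁻¹ y) ?_ ?_ ?_ ?_
  · intro y hy
    simp only [Finset.mem_filter, Finset.mem_range] at hy ⊢
    refine ⟨imgPt_lt q y, ?_⟩
    have h := congrArg (imgPt q) hy.2
    rw [← imgPt_mul _ _ hy.1, inv_mul_cancel_right, imgPt_mul _ _ hy.1] at h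
    exact h
  · intro y hy
    simp only [Finset.mem_filter, Finset.mem_range] at hy ⊢
    refine ⟨imgPt_lt _ y, ?_⟩
    rw [← imgPt_mul _ _ hy.1, show q⁻¹ * (q * v * q⁻¹) = v * q⁻¹ by group, imgPt_mul _ _ hy.1, hy.2]
  · intro y hy
    simp only [Finset.mem_filter, Finset.mem_range] at hy
    exact imgPt_inv hy.1 rfl
  · intro y hy
    simp only [Finset.mem_filter, Finset.mem_range] at hy
    have := imgPt_inv hy.1 (p := q⁻¹) rfl
    rwa [inv_inv] at this

theorem cent_R_ly {g : Ly} (h : ∀ v ∈ R, g * toLy v = toLy v * g) : ∃ i, g = toLy (zc ^ i) := by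
  haveI := finite
  obtain ⟨i, hi, p, q, e, hq⟩ := fix_node (H := R) (g := g) fun v hv => by
    rw [show g⁻¹ * toLy v * g = toLy v by rw [mul_assoc, ← h v hv, inv_mul_cancel_left]]
    exact ⟨v, rfl⟩
  rcases node_of_3125 (by rw [card_R]) hi hq with rfl | rfl
  · rw [gLy_zero, inv_one, mul_one, ← map_mul] at e
    subst e
    obtain ⟨n, hn⟩ := cent_R (q := q⁻¹ * p⁻¹) fun v hv => toLy_injective (by
      simpa only [map_mul] using h v hv)
    exact ⟨n, by rw [hn]⟩
  exfalso
  have hqR : ∀ v ∈ R, q * v * q⁻¹ ∈ B0 := fun v hv => by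
    refine S_le_B0 (R_le (K_pow_R ?_ (conj_pow_one card_R hv q)))
    rw [← stab1_eq]; exact hq v hv
  have hpt : ptOf q⁻¹ = 0 := by rw [ptOf, inv_inv]; exact norm_R_fix hqR
  obtain ⟨j, hj, k, hk, hqe⟩ := Fibre.split (FB := fibre) fullCert.fibre_ok fullCert.trans hpt
  obtain ⟨k', hk'⟩ := K_conj hk
  set q' := k' * (val uW)⁻¹ * p⁻¹ with hq'
  set r := fibre.r.getD j []
  have hg : g = toLy (val r) * lyZ * toLy q' := by
    have hzi : lyZ⁻¹ = lyZ * (toLy (val uW))⁻¹ := by rw [← z_sq, mul_inv_rev, mul_inv_cancel_left]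
    have hkz : toLy k * lyZ = lyZ * toLy k' := by rw [hk']; group
    calc g = toLy (val r) * (toLy k * lyZ) * (toLy (val uW))⁻¹ * toLy p⁻¹ := by
          rw [e, gLy_one, hzi, hqe, map_mul]; simp only [mul_assoc]
      _ = _ := by rw [hkz, hq', map_mul, map_mul, map_inv toLy (val uW)]; simp only [mul_assoc]
  clear_value q'
  have ht := fibTest_ok
  simp only [List.all_eq_true, List.mem_range, Bool.and_eq_true, Bool.not_eq_true'] at ht
  obtain ⟨⟨⟨⟨hok, hmem⟩, heq⟩, hthok⟩, hne⟩ := ht j hj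
  set w := fibTest.getD j []
  set l := fibConj.getD j []
  have hrok : okWord r = true := by
    have : ∀ j < 5, okWord (fibre.r.getD j []) = true := by decide +kernel
    exact this j hj
  have hkexp : val (kExp kData l) = (val r)⁻¹ * val w * val r := by
    rw [← val_eq_of_wordEq heq, Dce.val_append, Dce.val_append, val_invWord r hrok]
  have hc := h _ (mem_of_inGen hmem)
  have hz : lyZ * toLy (q' * val w * q'⁻¹) * lyZ⁻¹ = toLy (val (kExp kData l)) := by
    rw [hkexp]
    simp only [map_mul, map_inv]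
    calc lyZ * (toLy q' * toLy (val w) * (toLy q')⁻¹) * lyZ⁻¹
        = (toLy (val r))⁻¹ * (g * toLy (val w)) * g⁻¹ * toLy (val r) := by rw [hg]; group
      _ = _ := by rw [hc]; group
  have h2 : q' * val w * q'⁻¹ = val (thExp kData l) := toLy_injective (by
    refine mul_left_cancel (a := lyZ) ?_
    rw [← kExp_z l hok, ← hz, inv_mul_cancel_right])
  have hw : okWord w = true := okWord_of_inGen hmem
  have h3 := fix_conj q' (val w)
  rw [h2, ← fixCount_eq _ hthok, ← fixCount_eq _ hw] at h3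
  rw [h3] at hne
  simp at hne

theorem cent_R2_ly {g : Ly} (h : ∀ v ∈ R2, g * toLy v = toLy v * g)
    (hu : g * toLy (val uW2) = toLy (val uW2) * g) : g = 1 := by
  haveI := finite
  obtain ⟨i, hi, p, q, e, hq⟩ := fix_node (H := R2) (g := g) fun v hv => by
    rw [show g⁻¹ * toLy v * g = toLy v by rw [mul_assoc, ← h v hv, inv_mul_cancel_left]]
    exact ⟨v, rfl⟩
  rcases node_of_3125 (by rw [card_R2]) hi hq with rfl | rfl
  · rw [gLy_zero, inv_one, mul_one, ← map_mul] at e
    subst e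
    rw [cent_R2 (q := q⁻¹ * p⁻¹) (fun v hv => toLy_injective (by simpa only [map_mul] using h v hv))
      (toLy_injective (by simpa only [map_mul] using hu.symm)), map_one]
  exfalso
  have hle : R2.map (MulAut.conj q).toMonoidHom ≤ R := Subgroup.map_le_iff_le_comap.2 fun v hv =>
    K_pow_R (by rw [← stab1_eq]; exact hq v hv) (conj_pow_one card_R2 hv q)
  have heq : R2.map (MulAut.conj q).toMonoidHom = R := Subgroup.eq_of_le_of_card_ge hle
    (le_of_eq (by rw [Subgroup.card_map_of_injective (MulEquiv.injective _), card_R, card_R2]))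
  have key : ∀ y ∈ r2Fix, imgPt q⁻¹ y = 0 := by
    intro y hy
    have hy' : y < 3906 := by
      have hf := r2Fixed
      simp only [List.all_eq_true, Bool.and_eq_true, Nat.blt_eq] at hf
      exact (hf y hy).1
    refine R_fix_unique (imgPt_lt _ _) fun w hw => ?_
    rw [← heq] at hw
    obtain ⟨v, hv, rfl⟩ := hw
    simp only [MulEquiv.coe_toMonoidHom, MulAut.conj_apply]
    rw [← imgPt_mul _ _ hy', show q⁻¹ * (q * v * q⁻¹) = v * q⁻¹ by group, imgPt_mul _ _ hy',
      R2_fixes hy hv]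
  have e0 := key 0 (by decide)
  have e1 := key 3580 (by decide)
  exact absurd (imgPt_inj (p := q⁻¹) (by norm_num : 0 < 3906) (by norm_num : 3580 < 3906)
    (e0.trans e1.symm)) (by norm_num)

end Cfsg.Agent.Lib.CosetEnum.LyRep.Out
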