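import Cfsg.Agent.Lib.CosetEnum.LyRep.Out.Checks

/-!
Facts inside `P`: the Sylow subgroup `S`, its two normal subgroups `R`, `R2` of index five, the group
`B0 = S T`, centralisers, and the normalisers of `S`, `R`, `R2`.
-/

set_option autoImplicit false
set_option maxRecDepth 100000
set_option Elab.async false

namespace Cfsg.Agent.Lib.CosetEnum.LyRep.Out

open Cfsg.Agent.Lib.CosetEnum Cfsg.Agent.Lib.CosetEnum.LyP Cfsg.Agent.Lib.CosetEnum.LyP.Dce
open Cfsg.Agent.Lib.ExactCover

/-- The Sylow subgroup. -/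
noncomputable abbrev S : Subgroup P := genGroup sRoots
/-- The first normal subgroup. -/
noncomputable abbrev R : Subgroup P := genGroup rRoots
/-- The second normal subgroup. -/
noncomputable abbrev R2 : Subgroup P := genGroup r2Roots
/-- The group `S T`. -/
noncomputable abbrev B0 : Subgroup P := genGroup b0Gens
/-- The Levi root. -/
noncomputable abbrev ub : P := val [2]
/-- The other simple root. -/
noncomputable abbrev us : P := val usW
/-- The torus. -/
noncomputable abbrev te (i j : ℕ) : P := val (tw i j)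
/-- The central root of `R`. -/
noncomputable abbrev zc : P := val (zRoots.getD 0 [])

theorem sOk : ∀ u ∈ sRoots, okWord u = true := tower_all_ok sTower_ok
theorem rOk : ∀ u ∈ rRoots, okWord u = true := tower_all_ok rTower_ok
theorem r2Ok : ∀ u ∈ r2Roots, okWord u = true := tower_all_ok r2Tower_ok

theorem card_S : Nat.card S = 15625 := nf_card sTower_ok
theorem card_R : Nat.card R = 3125 := nf_card rTower_ok
theorem card_R2 : Nat.card R2 = 3125 := nf_card r2Tower_ok

theorem R_le : R ≤ S := Subgroup.closure_mono fun x ⟨w, hw, e⟩ =>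
  ⟨w, by simpa using List.all_eq_true.1 r_sub w hw, e⟩

theorem R2_le : R2 ≤ S := Subgroup.closure_mono fun x ⟨w, hw, e⟩ =>
  ⟨w, by simpa using List.all_eq_true.1 r2_sub w hw, e⟩

theorem ub_S : ub ∈ S := gen_mem us_mem.2.1
theorem us_S : us ∈ S := gen_mem us_mem.1
theorem ub_R2 : ub ∈ R2 := gen_mem us_mem.2.2.1
theorem us_R : us ∈ R := gen_mem us_mem.2.2.2

theorem S_le_B0 : S ≤ B0 := Subgroup.closure_mono fun x ⟨w, hw, e⟩ =>
  ⟨w, List.mem_append_left _ hw, e⟩

theorem step0 : (∀ v ∈ R, ub * v * ub⁻¹ ∈ R) ∧ ub ^ 5 = 1 ∧ ub ∉ R := by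
  have hz : stepOK (sRoots.getD 0 []) rRoots (sTower.getD 0 ([], 0, [])) = true := by decide +kernel
  exact step_facts hz

theorem us_norm : ∀ v ∈ R2, us * v * us⁻¹ ∈ R2 := fun v hv => norm_mem usR2_ok hv

theorem us_notMem : us ∉ R2 := by
  intro h
  have hm := us_moves
  simp only [movesSome, List.any_eq_true, Bool.not_eq_true'] at hm
  obtain ⟨y, hy, hne⟩ := hm
  have hf := r2Fixed
  simp only [List.all_eq_true, Bool.and_eq_true, Nat.blt_eq, Nat.beq_eq] at hf
  have h1 := orbit_mem r2Ok (O := [y]) (fun x hx => by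
    rw [List.mem_singleton] at hx; subst hx
    exact ⟨(hf x hy).1, fun g hg => by rw [(hf x hy).2 g hg]; exact List.mem_singleton_self x⟩) h y
    (List.mem_singleton_self y)
  have hok : okWord usW = true := sOk _ us_mem.1
  rw [List.mem_singleton, imgPt_word usW hok (hf y hy).1] at h1
  rw [h1] at hne
  simp at hne

theorem cyc_split {N H : Subgroup P} {u : P} (hle : N ≤ H) (hu : u ∈ H) (h5 : u ^ 5 = 1) (hn : u ∉ N)
    (hc : Nat.card H = 5 * Nat.card N) {v : P} (hv : v ∈ H) : ∃ a < 5, ∃ n ∈ N, v = u ^ a * n := by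
  haveI := finite
  let F : Fin 5 × N → H := fun p => ⟨u ^ p.1.1 * p.2.1, H.mul_mem (H.pow_mem hu _) (hle p.2.2)⟩
  have hinj : Function.Injective F := by
    rintro ⟨a, n⟩ ⟨b, m⟩ e
    have e' : u ^ a.1 * n.1 = u ^ b.1 * m.1 := congrArg Subtype.val e
    have hab := cyc_inj h5 hn n.2 m.2 e'
    rw [Nat.mod_eq_of_lt a.2, Nat.mod_eq_of_lt b.2] at hab
    obtain rfl : a = b := Fin.ext hab
    simp [Subtype.ext (mul_left_cancel e')]
  obtain ⟨⟨a, n⟩, e⟩ := ((Nat.bijective_iff_injective_and_card F).2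
    ⟨hinj, by rw [Nat.card_prod, Nat.card_fin, hc]⟩).2 ⟨v, hv⟩
  exact ⟨a.1, a.2, n.1, n.2, (congrArg Subtype.val e).symm⟩

theorem S_split {v : P} (hv : v ∈ S) : ∃ a < 5, ∃ n ∈ R, v = ub ^ a * n :=
  cyc_split R_le ub_S step0.2.1 step0.2.2 (by rw [card_S, card_R]) hv

theorem us5 : us ^ 5 = 1 := by
  rw [← val_rep, ← val_nil]; exact val_eq_of_wordEq (by decide +kernel)

theorem S_split2 {v : P} (hv : v ∈ S) : ∃ a < 5, ∃ n ∈ R2, v = us ^ a * n :=
  cyc_split R2_le us_S us5 us_notMem (by rw [card_S, card_R2]) hv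

theorem S_norm_R {s v : P} (hs : s ∈ S) (hv : v ∈ R) : s * v * s⁻¹ ∈ R := by
  obtain ⟨a, -, n, hn, rfl⟩ := S_split hs
  have h := conj_pow_mem step0.1 a (R.mul_mem (R.mul_mem hn hv) (R.inv_mem hn))
  simpa [mul_assoc] using h

theorem S_norm_R2 {s v : P} (hs : s ∈ S) (hv : v ∈ R2) : s * v * s⁻¹ ∈ R2 := by
  obtain ⟨a, -, n, hn, rfl⟩ := S_split2 hs
  have h := conj_pow_mem us_norm a (R2.mul_mem (R2.mul_mem hn hv) (R2.inv_mem hn))
  simpa [mul_assoc] using h

theorem te_mem_tu (i j : ℕ) : te i j ∈ genGroup [tW, uW2] := by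
  rw [te, tw, Dce.val_append, val_rep, val_rep]
  exact mul_mem (pow_mem (gen_mem (by simp)) i) (pow_mem (gen_mem (by simp)) j)

theorem te_B0 (i j : ℕ) : te i j ∈ B0 := by
  have hle : genGroup [tW, uW2] ≤ B0 :=
    Subgroup.closure_mono fun x ⟨w, hw, e⟩ => ⟨w, List.mem_append_right _ hw, e⟩
  exact hle (te_mem_tu i j)

theorem tu_comm : val tW * val uW2 = val uW2 * val tW ∧ val tW ^ 4 = 1 ∧ val uW2 ^ 4 = 1 := by
  have h := tu_facts
  simp only [Bool.and_eq_true] at h
  refine ⟨by rw [← Dce.val_append, ← Dce.val_append]; exact val_eq_of_wordEq h.1.1, ?_, ?_⟩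
  · rw [← val_rep, ← val_nil]; exact val_eq_of_wordEq h.1.2
  · rw [← val_rep, ← val_nil]; exact val_eq_of_wordEq h.2

theorem te_eq (i j : ℕ) : te i j = val tW ^ i * val uW2 ^ j := by
  rw [te, tw, Dce.val_append, val_rep, val_rep]

theorem te_mul (i j k l : ℕ) : te i j * te k l = te (i + k) (j + l) := by
  simp only [te_eq]
  have hc : Commute (val uW2 ^ j) (val tW ^ k) := (Commute.pow_pow (tu_comm.1.symm) j k)
  rw [pow_add, pow_add, mul_assoc, ← mul_assoc (val uW2 ^ j), hc.eq]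
  simp only [mul_assoc]

theorem te_mod (i j : ℕ) : te i j = te (i % 4) (j % 4) := by
  simp only [te_eq]
  congr 1
  · conv_lhs => rw [← Nat.mod_add_div i 4, pow_add, pow_mul, tu_comm.2.1, one_pow, mul_one]
  · conv_lhs => rw [← Nat.mod_add_div j 4, pow_add, pow_mul, tu_comm.2.2, one_pow, mul_one]

theorem B0_norm {g v : P} (hg : g ∈ B0) :
    (v ∈ S → g * v * g⁻¹ ∈ S) ∧ (v ∈ R → g * v * g⁻¹ ∈ R) ∧ (v ∈ R2 → g * v * g⁻¹ ∈ R2) := by
  haveI := finite
  revert v
  refine closure_induction_mul (p := fun g => ∀ {v : P},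
    (v ∈ S → g * v * g⁻¹ ∈ S) ∧ (v ∈ R → g * v * g⁻¹ ∈ R) ∧ (v ∈ R2 → g * v * g⁻¹ ∈ R2)) ?_ ?_ ?_ hg
  · rintro _ ⟨w, hw, rfl⟩ v
    rcases List.mem_append.1 hw with hw | hw
    · exact ⟨fun h => mul_mem (mul_mem (gen_mem hw) h) (inv_mem (gen_mem hw)),
        S_norm_R (gen_mem hw), S_norm_R2 (gen_mem hw)⟩
    · exact ⟨norms_mem tuS hw, norms_mem tuR hw, norms_mem tuR2 hw⟩
  · intro v; simp
  · intro a b ha hb v
    refine ⟨fun h => ?_, fun h => ?_, fun h => ?_⟩
    · have := (ha (v := b * v * b⁻¹)).1 (hb.1 h); simpa [mul_assoc] using this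
    · have := (ha (v := b * v * b⁻¹)).2.1 (hb.2.1 h); simpa [mul_assoc] using this
    · have := (ha (v := b * v * b⁻¹)).2.2 (hb.2.2 h); simpa [mul_assoc] using this

theorem B0_split {x : P} (hx : x ∈ B0) : ∃ s ∈ S, ∃ i < 4, ∃ j < 4, x = s * te i j := by
  haveI := finite
  suffices h : ∃ s ∈ S, ∃ i j, x = s * te i j by
    obtain ⟨s, hs, i, j, rfl⟩ := h
    exact ⟨s, hs, _, Nat.mod_lt i (by norm_num), _, Nat.mod_lt j (by norm_num), by rw [te_mod]⟩
  refine closure_induction_mul (p := fun x => ∃ s ∈ S, ∃ i j, x = s * te i j) ?_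
    ⟨1, one_mem _, 0, 0, by simp [te_eq]⟩ ?_ hx
  · rintro _ ⟨w, hw, rfl⟩
    rcases List.mem_append.1 hw with hw | hw
    · exact ⟨_, gen_mem hw, 0, 0, by simp [te_eq]⟩
    · simp only [List.mem_cons, List.not_mem_nil, or_false] at hw
      rcases hw with rfl | rfl
      · exact ⟨1, one_mem _, 1, 0, by simp [te_eq]⟩
      · exact ⟨1, one_mem _, 0, 1, by simp [te_eq]⟩
  · rintro _ _ ⟨s, hs, i, j, rfl⟩ ⟨s', hs', k, l, rfl⟩
    refine ⟨s * (te i j * s' * (te i j)⁻¹), mul_mem hs ((B0_norm (te_B0 i j)).1 hs'), i + k, j + l, ?_⟩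
    rw [← te_mul]; group

theorem te_inj {i j k l : ℕ} (hi : i < 4) (hj : j < 4) (hk : k < 4) (hl : l < 4)
    (h : te i j = te k l) : i = k ∧ j = l := by
  have hok : ∀ i j, okWord (tw i j) = true := fun i j =>
    okWord_append (okWord_rep (by decide) i) (okWord_rep (by decide) j)
  have hc := tw_inj_ok
  simp only [List.all_eq_true, List.mem_range, Bool.not_eq_true'] at hc
  have key : ∀ a b, b < a → a < 16 → te (a / 4) (a % 4) ≠ te (b / 4) (b % 4) := fun a b hba ha =>
    val_ne (hok _ _) (hok _ _) (hc a ha b hba)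
  rcases Nat.lt_trichotomy (4 * i + j) (4 * k + l) with hlt | heq | hgt
  · refine absurd h.symm ?_
    have := key _ _ hlt (by omega)
    rwa [show (4 * k + l) / 4 = k by omega, show (4 * k + l) % 4 = l by omega,
      show (4 * i + j) / 4 = i by omega, show (4 * i + j) % 4 = j by omega] at this
  · omega
  · refine absurd h ?_
    have := key _ _ hgt (by omega)
    rwa [show (4 * k + l) / 4 = k by omega, show (4 * k + l) % 4 = l by omega,
      show (4 * i + j) / 4 = i by omega, show (4 * i + j) % 4 = j by omega] at this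

theorem te_S {i j : ℕ} (h : te i j ∈ S) : te i j = 1 := by
  haveI := finite
  have h4 : te i j ^ 4 = 1 := by
    have hc : Commute (val tW ^ i) (val uW2 ^ j) := Commute.pow_pow tu_comm.1 i j
    rw [te_eq, hc.mul_pow, ← pow_mul, ← pow_mul, mul_comm i, mul_comm j, pow_mul, pow_mul,
      tu_comm.2.1, tu_comm.2.2, one_pow, one_pow, one_mul]
  have h5 : te i j ^ 15625 = 1 := by
    have := pow_card_eq_one' (G := S) (x := ⟨_, h⟩)
    rw [card_S] at this
    exact congrArg Subtype.val this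
  rw [show 15625 = 4 * 3906 + 1 by norm_num, pow_add, pow_mul, h4, one_pow, one_mul, pow_one] at h5
  exact h5

theorem card_B0 : Nat.card B0 = 250000 := by
  haveI := finite
  let F : S × (Fin 4 × Fin 4) → B0 := fun p =>
    ⟨p.1.1 * te p.2.1 p.2.2, B0.mul_mem (S_le_B0 p.1.2) (te_B0 _ _)⟩
  have hb : Function.Bijective F := by
    constructor
    · rintro ⟨s, i, j⟩ ⟨s', k, l⟩ e
      have e' : (s : P) * te i j = s' * te k l := congrArg Subtype.val e
      have hmem : te (i + 3 * k) (j + 3 * l) ∈ S := by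
        have : te i j * (te k l)⁻¹ ∈ S := by
          have h1 := S.mul_mem (S.inv_mem s.2) s'.2
          rwa [show (s : P)⁻¹ * s' = te i j * (te k l)⁻¹ by
            rw [eq_mul_inv_iff_mul_eq, mul_assoc, ← e', inv_mul_cancel_left]] at h1
        have hinv : (te k l)⁻¹ = te (3 * k) (3 * l) := inv_eq_of_mul_eq_one_right (by
          rw [te_mul, te_mod, show ((k : ℕ) + 3 * k) % 4 = 0 by omega,
            show ((l : ℕ) + 3 * l) % 4 = 0 by omega]
          simp [te_eq])
        rwa [hinv, te_mul] at this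
      have h1 := te_S hmem
      rw [te_mod] at h1
      obtain ⟨hik, hjl⟩ := te_inj (Nat.mod_lt _ (by norm_num)) (Nat.mod_lt _ (by norm_num))
        (by norm_num : 0 < 4) (by norm_num : 0 < 4) (h1.trans (by simp [te_eq]))
      obtain rfl : i = k := Fin.ext (by omega)
      obtain rfl : j = l := Fin.ext (by omega)
      simp [Subtype.ext (mul_right_cancel e')]
    · rintro ⟨x, hx⟩
      obtain ⟨s, hs, i, hi, j, hj, rfl⟩ := B0_split hx
      exact ⟨⟨⟨s, hs⟩, ⟨i, hi⟩, ⟨j, hj⟩⟩, rfl⟩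
  rw [← Nat.card_eq_of_bijective F hb, Nat.card_prod, card_S, Nat.card_prod, Nat.card_fin]

theorem B0_fix {b : P} (hb : b ∈ B0) : imgPt b 0 = 0 := by
  have hf := fix0_ok
  simp only [List.all_eq_true, Bool.and_eq_true, Nat.beq_eq] at hf
  have h := orbit_mem (O := [0]) (fun g hg => (hf g hg).1) (fun y hy => by
    rw [List.mem_singleton] at hy; subst hy
    exact ⟨by norm_num, fun g hg => by rw [(hf g hg).2]; exact List.mem_singleton_self 0⟩) hb 0
    (List.mem_singleton_self 0)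
  simpa using h

theorem rep_ok {k : ℕ} (hk : k < 6) :
    okWord (bReps.getD k []) = true ∧ imgPt (val (bReps.getD k [])) 0 = 0 := by
  obtain ⟨h, hlen, -⟩ := bReps_ok
  simp only [List.all_eq_true, Bool.and_eq_true, Nat.beq_eq] at h
  rw [List.getD_eq_getElem _ _ (hlen ▸ hk)]
  obtain ⟨h1, h2⟩ := h _ (List.getElem_mem (hlen ▸ hk))
  exact ⟨h1, by rw [imgPt_word _ h1 (by norm_num)]; exact h2⟩

theorem stab_split {p : P} (hp : imgPt p 0 = 0) :
    ∃ b ∈ B0, ∃ k < 6, p = b * val (bReps.getD k []) := by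
  haveI := finite
  have hp' : ptOf p = 0 := imgPt_inv (by norm_num) hp
  obtain ⟨j, hj, k, hk, rfl⟩ := Fibre.split (FB := fibre) fullCert.fibre_ok fullCert.trans hp'
  set gens := fibre.r ++ kData.kGen
  have hle : kGroup kData ≤ genGroup gens :=
    Subgroup.closure_mono fun x ⟨w, hw, e⟩ => ⟨w, List.mem_append_right _ hw, e⟩
  have hmem : val (fibre.r.getD j []) * k ∈ genGroup gens := by
    refine mul_mem ?_ (hle hk)
    have hl : fibre.r.length = 5 := by decide +kernel
    rw [List.getD_eq_getElem _ _ (hl ▸ hj)]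
    exact gen_mem (List.mem_append_left _ (List.getElem_mem _))
  suffices h : ∀ x ∈ genGroup gens, ∀ m < 6, ∃ b ∈ B0, ∃ n < 6,
      val (bReps.getD m []) * x = b * val (bReps.getD n []) by
    obtain ⟨b, hb, n, hn, e⟩ := h _ hmem 0 (by norm_num)
    rw [bReps_ok.2.2, Dce.val_nil, one_mul] at e
    exact ⟨b, hb, n, hn, e⟩
  intro x hx
  refine closure_induction_mul (p := fun x => ∀ m < 6, ∃ b ∈ B0, ∃ n < 6,
    val (bReps.getD m []) * x = b * val (bReps.getD n [])) ?_ ?_ ?_ hx
  · rintro _ ⟨w, hw, rfl⟩ m hm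
    obtain ⟨g, hg, rfl⟩ := List.mem_iff_getElem.1 hw
    have h := bClose_ok
    simp only [List.all_eq_true, List.mem_range, Bool.and_eq_true, Nat.blt_eq] at h
    obtain ⟨h1, h2⟩ := h m hm g hg
    have h3 := mem_of_inGen h2
    rw [List.getD_eq_getElem _ _ hg, Dce.val_append, Dce.val_append, val_invWord _ (rep_ok h1).1] at h3
    exact ⟨_, h3, _, h1, by rw [inv_mul_cancel_right]⟩
  · exact fun m hm => ⟨1, one_mem _, m, hm, by rw [mul_one, one_mul]⟩
  · intro a c ha hc m hm
    obtain ⟨b, hb, n, hn, e⟩ := ha m hm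
    obtain ⟨b', hb', n', hn', e'⟩ := hc n hn
    exact ⟨b * b', mul_mem hb hb', n', hn', by rw [← mul_assoc, e, mul_assoc, e', mul_assoc]⟩

theorem fixed_of_conj {q : P} {us : List (List ℕ)} (hok : ∀ u ∈ us, okWord u = true)
    (hus : genGroup us ≤ B0) (h : ∀ v ∈ genGroup us, q * v * q⁻¹ ∈ B0) :
    ∀ u ∈ us, scan 10 table u (imgPt q 0) = imgPt q 0 := by
  intro u hu
  have h1 := B0_fix (h _ (gen_mem hu))
  rw [imgPt_mul _ _ (by norm_num), imgPt_mul _ _ (by norm_num)] at h1
  have h2 := imgPt_inv (imgPt_lt _ _) h1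
  rw [inv_inv, imgPt_word u (hok u hu) (imgPt_lt q 0)] at h2
  exact h2.symm

theorem norm_R_fix {q : P} (h : ∀ v ∈ R, q * v * q⁻¹ ∈ B0) : imgPt q 0 = 0 := by
  have hf := fixed_of_conj rOk (R_le.trans S_le_B0) h
  have hc := List.all_eq_true.1 rFix_ok (imgPt q 0) (List.mem_range.2 (imgPt_lt q 0))
  simp only [Bool.or_eq_true, Nat.beq_eq, List.any_eq_true, Bool.not_eq_true'] at hc
  rcases hc with hc | ⟨g, hg, hne⟩
  · exact hc
  · rw [hf g hg] at hne
    simp at hne

theorem norm_R2_fix {q : P} (h : ∀ v ∈ R2, q * v * q⁻¹ ∈ B0) : imgPt q 0 ∈ r2Fix := by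
  have hf := fixed_of_conj r2Ok (R2_le.trans S_le_B0) h
  have hc := List.all_eq_true.1 r2Fix_ok (imgPt q 0) (List.mem_range.2 (imgPt_lt q 0))
  simp only [Bool.or_eq_true, List.contains_eq_mem, decide_eq_true_eq, List.any_eq_true,
    Bool.not_eq_true'] at hc
  rcases hc with hc | ⟨g, hg, hne⟩
  · exact hc
  · rw [hf g hg] at hne
    simp at hne

theorem R_fix_unique {y : ℕ} (hy : y < 3906) (h : ∀ v ∈ R, imgPt v y = y) : y = 0 := by
  have hc := List.all_eq_true.1 rFix_ok y (List.mem_range.2 hy)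
  simp only [Bool.or_eq_true, Nat.beq_eq, List.any_eq_true, Bool.not_eq_true'] at hc
  rcases hc with hc | ⟨g, hg, hne⟩
  · exact hc
  · rw [← imgPt_word g (rOk g hg) hy, h _ (gen_mem hg)] at hne
    simp at hne

theorem R2_fixes {y : ℕ} (hy : y ∈ r2Fix) {v : P} (hv : v ∈ R2) : imgPt v y = y := by
  have hf := r2Fixed
  simp only [List.all_eq_true, Bool.and_eq_true, Nat.blt_eq, Nat.beq_eq] at hf
  have h1 := orbit_mem r2Ok (O := [y]) (fun x hx => by
    rw [List.mem_singleton] at hx; subst hx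
    exact ⟨(hf x hy).1, fun g hg => by rw [(hf x hy).2 g hg]; exact List.mem_singleton_self x⟩) hv y
    (List.mem_singleton_self y)
  simpa using h1

theorem norm_S {q : P} (h : ∀ v ∈ S, q * v * q⁻¹ ∈ S) : q ∈ B0 := by
  have h0 := norm_R_fix fun v hv => S_le_B0 (h v (R_le hv))
  obtain ⟨b, hb, k, hk, rfl⟩ := stab_split h0
  have hw := List.all_eq_true.1 sWit_ok k (List.mem_range.2 hk)
  simp only [Bool.or_eq_true, Nat.beq_eq, List.any_eq_true] at hw
  rcases hw with rfl | ⟨v, hv, hl⟩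
  · rw [bReps_ok.2.2, Dce.val_nil, mul_one]; exact hb
  exfalso
  set r := bReps.getD k []
  obtain ⟨hr, -⟩ := rep_ok hk
  have h1 : val r * val v * (val r)⁻¹ ∈ S := by
    have h2 := (B0_norm (inv_mem hb)).1 (h _ (gen_mem hv))
    simpa [mul_assoc] using h2
  have hO := sOrb_ok
  simp only [List.all_eq_true, Bool.and_eq_true, Nat.blt_eq, List.contains_eq_mem,
    decide_eq_true_eq] at hO
  simp only [leaves, List.any_eq_true, Bool.not_eq_true', List.contains_eq_mem,
    decide_eq_false_iff_not] at hl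
  obtain ⟨y, hy, hne⟩ := hl
  have hok : okWord (r ++ v ++ invWord r) = true :=
    okWord_append (okWord_append hr (sOk v hv)) (okWord_invWord hr)
  have h3 := orbit_mem sOk (O := sOrb) hO h1 y hy
  rw [← val_invWord r hr, ← Dce.val_append, ← Dce.val_append, imgPt_word _ hok (hO y hy).1] at h3
  exact hne h3

theorem norm_R2 {q : P} (h0 : imgPt q 0 = 0) (h : ∀ v ∈ R2, q * v * q⁻¹ ∈ R2) : q ∈ B0 := by
  obtain ⟨b, hb, k, hk, rfl⟩ := stab_split h0
  have hw := List.all_eq_true.1 r2Wit_ok k (List.mem_range.2 hk)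
  simp only [Bool.or_eq_true, Nat.beq_eq, List.any_eq_true] at hw
  rcases hw with rfl | ⟨v, hv, hl⟩
  · rw [bReps_ok.2.2, Dce.val_nil, mul_one]; exact hb
  exfalso
  set r := bReps.getD k []
  obtain ⟨hr, -⟩ := rep_ok hk
  have h1 : val r * val v * (val r)⁻¹ ∈ R2 := by
    have h2 := (B0_norm (inv_mem hb)).2.2 (h _ (gen_mem hv))
    simpa [mul_assoc] using h2
  simp only [movesSome, List.any_eq_true, Bool.not_eq_true'] at hl
  obtain ⟨y, hy, hne⟩ := hl
  have hok : okWord (r ++ v ++ invWord r) = true :=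
    okWord_append (okWord_append hr (r2Ok v hv)) (okWord_invWord hr)
  have hy' : y < 3906 := by
    have hf := r2Fixed
    simp only [List.all_eq_true, Bool.and_eq_true, Nat.blt_eq] at hf
    exact (hf y hy).1
  have h3 := R2_fixes hy h1
  rw [← val_invWord r hr, ← Dce.val_append, ← Dce.val_append, imgPt_word _ hok hy'] at h3
  rw [h3] at hne
  simp at hne

/-- Commutators of a subgroup lie in a subgroup it normalises, if those of the generators do. -/
theorem comm_mem {gens : List (List ℕ)} {N : Subgroup P}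
    (hN : ∀ g ∈ genGroup gens, ∀ v ∈ N, g * v * g⁻¹ ∈ N)
    (hg : ∀ a ∈ gens, ∀ b ∈ gens, (val a)⁻¹ * (val b)⁻¹ * val a * val b ∈ N)
    {a b : P} (ha : a ∈ genGroup gens) (hb : b ∈ genGroup gens) : a⁻¹ * b⁻¹ * a * b ∈ N := by
  haveI := finite
  have hNi : ∀ g ∈ genGroup gens, ∀ v ∈ N, g⁻¹ * v * g ∈ N := fun g hg v hv => by
    simpa using hN g⁻¹ (inv_mem hg) v hv
  refine (closure_induction_mul (p := fun a => a ∈ genGroup gens ∧
    ∀ b ∈ genGroup gens, a⁻¹ * b⁻¹ * a * b ∈ N) ?_ ⟨one_mem _, fun b _ => by simp⟩ ?_ ha).2 b hb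
  · rintro _ ⟨w, hw, rfl⟩
    refine ⟨gen_mem hw, fun b hb => ?_⟩
    refine (closure_induction_mul (p := fun b => b ∈ genGroup gens ∧
      (val w)⁻¹ * b⁻¹ * val w * b ∈ N) ?_ ⟨one_mem _, by simp⟩ ?_ hb).2
    · rintro _ ⟨w', hw', rfl⟩
      exact ⟨gen_mem hw', hg w hw w' hw'⟩
    · rintro c d ⟨hc, hc'⟩ ⟨hd, hd'⟩
      refine ⟨mul_mem hc hd, ?_⟩
      have := N.mul_mem hd' (hNi d hd _ hc')
      simpa [mul_assoc] using this
  · rintro c d ⟨hc, hc'⟩ ⟨hd, hd'⟩
    refine ⟨mul_mem hc hd, fun b hb => ?_⟩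
    have := N.mul_mem (hNi d hd _ (hc' b hb)) (hd' b hb)
    simpa [mul_assoc] using this

theorem getD_all {gens : List (List ℕ)} {n : ℕ} (hn : gens.length = n) {p : List ℕ → List ℕ → Prop}
    (h : ∀ a < n, ∀ b < n, p (gens.getD a []) (gens.getD b [])) : ∀ a ∈ gens, ∀ b ∈ gens, p a b := by
  intro a ha b hb
  obtain ⟨i, hi, rfl⟩ := List.mem_iff_getElem.1 ha
  obtain ⟨j, hj, rfl⟩ := List.mem_iff_getElem.1 hb
  have := h i (hn ▸ hi) j (hn ▸ hj)
  rwa [List.getD_eq_getElem _ _ hi, List.getD_eq_getElem _ _ hj] at this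

theorem comm_R {a b : P} (ha : a ∈ R) (hb : b ∈ R) :
    a⁻¹ * b⁻¹ * a * b ∈ genGroup zRoots := by
  have h := zComm_ok
  simp only [Bool.and_eq_true, List.all_eq_true, List.mem_range] at h
  refine comm_mem (fun g hg v hv => group_norm h.1 hg hv) ?_ ha hb
  refine getD_all (n := 5) (by decide) fun i hi j hj => ?_
  have h1 := mem_of_inGen (h.2 i hi j hj)
  have hr : ∀ k < 5, okWord (rRoots.getD k []) = true := by decide
  rw [Dce.val_append, Dce.val_append, Dce.val_append, val_invWord _ (hr i hi),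
    val_invWord _ (hr j hj)] at h1
  exact h1

theorem comm_R2 {a b : P} (ha : a ∈ R2) (hb : b ∈ R2) :
    a⁻¹ * b⁻¹ * a * b ∈ genGroup fRoots := by
  have h := fComm_ok
  simp only [Bool.and_eq_true, List.all_eq_true, List.mem_range] at h
  refine comm_mem (fun g hg v hv => group_norm h.1 hg hv) ?_ ha hb
  refine getD_all (n := 5) (by decide) fun i hi j hj => ?_
  have h1 := mem_of_inGen (h.2 i hi j hj)
  have hr : ∀ k < 5, okWord (r2Roots.getD k []) = true := by decide
  rw [Dce.val_append, Dce.val_append, Dce.val_append, val_invWord _ (hr i hi),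
    val_invWord _ (hr j hj)] at h1
  exact h1

theorem zGroup {v : P} (hv : v ∈ genGroup zRoots) : ∃ i, v = zc ^ i := by
  haveI := finite
  refine closure_induction_mul (p := fun v => ∃ i, v = zc ^ i) ?_ ⟨0, (pow_zero _).symm⟩ ?_ hv
  · rintro _ ⟨w, hw, rfl⟩
    refine ⟨1, ?_⟩
    simp only [zRoots, List.mem_singleton] at hw
    subst hw
    rw [pow_one]; rfl
  · rintro _ _ ⟨i, rfl⟩ ⟨j, rfl⟩
    exact ⟨i + j, (pow_add _ i j).symm⟩

theorem centre_list {us : List (List ℕ)} {ds : List (List (List (ℕ × Bool)) × ℕ × List ℕ)}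
    (ht : towerOK us ds = true) {keep : List ℕ → Bool}
    (h : ((exps us.length).all fun e => keep e ||
      us.any fun v => !wordEq (nfW us e ++ v) (v ++ nfW us e)) = true)
    {q : P} (hq : q ∈ genGroup us) (hc : ∀ v ∈ genGroup us, q * v = v * q) :
    ∃ e ∈ exps us.length, keep e = true ∧ q = val (nfW us e) := by
  obtain ⟨e, he, rfl⟩ := nf_cover ht q hq
  have hok := tower_all_ok ht
  have h1 := List.all_eq_true.1 h e he
  simp only [Bool.or_eq_true, List.any_eq_true, Bool.not_eq_true'] at h1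
  rcases h1 with h1 | ⟨v, hv, hne⟩
  · exact ⟨e, he, h1, rfl⟩
  · refine absurd ?_ (val_ne (okWord_append (nfW_mem us e hok).1 (hok v hv))
      (okWord_append (hok v hv) (nfW_mem us e hok).1) hne)
    rw [Dce.val_append, Dce.val_append]
    exact hc _ (gen_mem hv)

theorem centre_R {q : P} (hq : q ∈ R) (hc : ∀ v ∈ R, q * v = v * q) : ∃ i, q = zc ^ i := by
  obtain ⟨e, -, he, rfl⟩ := centre_list rTower_ok rCentre_ok hq hc
  rw [decide_eq_true_eq] at he
  refine ⟨e.getD 2 0, ?_⟩
  rw [he]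
  simp [nfW, rRoots, sRoots, Dce.val_append, val_rep, zRoots, zc]

theorem cent_R {q : P} (hc : ∀ v ∈ R, q * v = v * q) : ∃ i, q = zc ^ i := by
  haveI := finite
  have hqq : ∀ v ∈ R, q * v * q⁻¹ = v := fun v hv => by rw [hc v hv, mul_inv_cancel_right]
  have h0 := norm_R_fix fun v hv => by rw [hqq v hv]; exact S_le_B0 (R_le hv)
  obtain ⟨b, hb, k, hk, hq⟩ := stab_split h0
  obtain ⟨s, hs, i, hi, j, hj, rfl⟩ := B0_split hb
  obtain ⟨a, ha, n, hn, rfl⟩ := S_split hs
  set L := (List.replicate a [2]).flatten ++ tw i j ++ bReps.getD k [] with hL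
  have hLv : val L = ub ^ a * te i j * val (bReps.getD k []) := by
    rw [hL, Dce.val_append, Dce.val_append, val_rep]
  set ρ := ub ^ a * n * (ub ^ a)⁻¹
  have hρ : ρ ∈ R := conj_pow_mem step0.1 a hn
  have hqL : q = ρ * val L := by rw [hq, hLv]; simp only [ρ]; group
  have hbad : (a = 0 ∧ i = 0 ∧ j = 0 ∧ k = 0) := by
    have h1 := rCoset_ok
    simp only [List.all_eq_true, List.mem_range] at h1
    have h2 := h1 a ha i hi j hj k hk
    simp only [Bool.or_eq_true, Bool.and_eq_true, Nat.beq_eq, List.any_eq_true] at h2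
    rcases h2 with h2 | ⟨v, hv, hm⟩
    · exact ⟨h2.1.1.1, h2.1.1.2, h2.1.2, h2.2⟩
    exfalso
    have hLok : okWord L = true :=
      okWord_append (okWord_append (okWord_rep (by decide) a)
        (okWord_append (okWord_rep (by decide) i) (okWord_rep (by decide) j))) (rep_ok hk).1
    have hvok := rOk v hv
    have hwok : okWord (commW v L) = true :=
      okWord_append (okWord_append (okWord_append (okWord_invWord hvok) hLok) hvok) (okWord_invWord hLok)
    have hz : val (commW v L) ∈ genGroup zRoots := by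
      have h3 : val L * val v * (val L)⁻¹ = ρ⁻¹ * val v * ρ := by
        have h4 := hqq _ (gen_mem hv)
        rw [hqL] at h4
        calc val L * val v * (val L)⁻¹ = ρ⁻¹ * (ρ * val L * val v * (ρ * val L)⁻¹) * ρ := by group
          _ = _ := by rw [h4]
      have h5 := comm_R (gen_mem hv) hρ
      rw [show val (commW v L) = (val v)⁻¹ * (val L * val v * (val L)⁻¹) by
        simp only [commW, Dce.val_append, val_invWord v hvok, val_invWord L hLok, mul_assoc], h3]
      simpa [mul_assoc] using h5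
    simp only [movesSome, List.any_eq_true, Bool.not_eq_true'] at hm
    obtain ⟨y, hy, hne⟩ := hm
    have hzf := zFix_ok
    simp only [List.all_eq_true, Bool.and_eq_true, Nat.blt_eq, Nat.beq_eq] at hzf
    have h6 := orbit_mem (gens := zRoots) (by decide) (O := [y]) (fun x hx => by
      rw [List.mem_singleton] at hx; subst hx
      exact ⟨(hzf x hy).1, fun g hg => by rw [(hzf x hy).2 g hg]; exact List.mem_singleton_self x⟩)
      hz y (List.mem_singleton_self y)
    rw [List.mem_singleton, imgPt_word _ hwok (hzf y hy).1] at h6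
    rw [h6] at hne
    simp at hne
  obtain ⟨rfl, rfl, rfl, rfl⟩ := hbad
  refine centre_R ?_ hc
  rw [hqL, hLv, bReps_ok.2.2, Dce.val_nil]
  simpa [te_eq] using hρ

theorem centre_R2 {q : P} (hq : q ∈ R2) (hc : ∀ v ∈ R2, q * v = v * q)
    (hu : val uW2 * q = q * val uW2) : q = 1 := by
  haveI := finite
  obtain ⟨e, he, hk, rfl⟩ := centre_list r2Tower_ok r2Centre_ok hq hc
  obtain ⟨e', he', hee, hs⟩ := cent_nf (by decide) r2Tower_ok r2Chi_u hq hu
  obtain rfl := nf_inj r2Tower_ok e he e' he' hee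
  have h := List.all_eq_true.1 scaleR2_ok e he
  simp only [Bool.or_eq_true, Bool.not_eq_true', decide_eq_false_iff_not, decide_eq_true_eq] at h hk
  rcases h with (h | h) | h
  · exact absurd hk h
  · exact absurd hs h
  · rw [h]; simp [nfW, r2Roots, Dce.val_nil]

theorem cent_R2 {q : P} (hc : ∀ v ∈ R2, q * v = v * q) (hu : val uW2 * q = q * val uW2) : q = 1 := by
  haveI := finite
  have hqq : ∀ v ∈ R2, q * v * q⁻¹ = v := fun v hv => by rw [hc v hv, mul_inv_cancel_right]
  have h0 := norm_R2_fix fun v hv => by rw [hqq v hv]; exact S_le_B0 (R2_le hv)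
  obtain ⟨k, hk, hkx⟩ := List.mem_iff_getElem.1 h0
  have hl := line_ok
  simp only [Bool.and_eq_true, Nat.beq_eq, List.all_eq_true, List.mem_range] at hl
  obtain ⟨⟨hnorm, hlen⟩, hscan⟩ := hl
  have hk6 : k < 6 := line_len.1 ▸ hk
  obtain ⟨hs0, hnok⟩ := hscan k hk6
  set N := lineReps.getD k []
  have hNmem : N ∈ lineReps := by
    rw [show N = lineReps[k]'(hlen ▸ hk6) from List.getD_eq_getElem _ _ _]
    exact List.getElem_mem _
  have hfix : imgPt (q * (val N)⁻¹) 0 = 0 := by
    rw [imgPt_mul _ _ (by norm_num)]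
    refine imgPt_inv (by norm_num) ?_
    rw [imgPt_word N hnok (by norm_num), hs0, List.getD_eq_getElem _ _ hk, hkx]
  have hN2 : ∀ v ∈ R2, q * (val N)⁻¹ * v * (q * (val N)⁻¹)⁻¹ ∈ R2 := by
    intro v hv
    have h1 : (val N)⁻¹ * v * val N ∈ R2 :=
      conj_inv_mem (fun w hw => norms_mem hnorm hNmem hw) hv
    have h2 := hqq _ h1
    rw [show q * (val N)⁻¹ * v * (q * (val N)⁻¹)⁻¹ = q * ((val N)⁻¹ * v * val N) * q⁻¹ by group, h2]
    exact h1
  obtain ⟨s, hs, i, hi, j, hj, hb⟩ := B0_split (norm_R2 hfix hN2)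
  obtain ⟨a, ha, n, hn, rfl⟩ := S_split2 hs
  set L := (List.replicate a usW).flatten ++ tw i j ++ N with hL
  have hLv : val L = us ^ a * te i j * val N := by
    rw [hL, Dce.val_append, Dce.val_append, val_rep]
  set ρ := us ^ a * n * (us ^ a)⁻¹
  have hρ : ρ ∈ R2 := conj_pow_mem us_norm a hn
  have hqL : q = ρ * val L := by
    calc q = q * (val N)⁻¹ * val N := by group
      _ = _ := by rw [hb, hLv]; simp only [ρ]; group
  have hbad : (a = 0 ∧ i = 0 ∧ j = 0 ∧ k = 0) := by
    have h1 := r2Coset_ok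
    simp only [List.all_eq_true, List.mem_range] at h1
    have h2 := h1 a ha i hi j hj k hk6
    simp only [Bool.or_eq_true, Bool.and_eq_true, Nat.beq_eq, List.any_eq_true] at h2
    rcases h2 with h2 | ⟨v, hv, O, hO, hm⟩
    · exact ⟨h2.1.1.1, h2.1.1.2, h2.1.2, h2.2⟩
    exfalso
    have hLok : okWord L = true :=
      okWord_append (okWord_append (okWord_rep (by decide) a)
        (okWord_append (okWord_rep (by decide) i) (okWord_rep (by decide) j))) hnok
    have hvok := r2Ok v hv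
    have hwok : okWord (commW v L) = true :=
      okWord_append (okWord_append (okWord_append (okWord_invWord hvok) hLok) hvok) (okWord_invWord hLok)
    have hz : val (commW v L) ∈ genGroup fRoots := by
      have h3 : val L * val v * (val L)⁻¹ = ρ⁻¹ * val v * ρ := by
        have h4 := hqq _ (gen_mem hv)
        rw [hqL] at h4
        calc val L * val v * (val L)⁻¹ = ρ⁻¹ * (ρ * val L * val v * (ρ * val L)⁻¹) * ρ := by group
          _ = _ := by rw [h4]
      have h5 := comm_R2 (gen_mem hv) hρ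
      rw [show val (commW v L) = (val v)⁻¹ * (val L * val v * (val L)⁻¹) by
        simp only [commW, Dce.val_append, val_invWord v hvok, val_invWord L hLok, mul_assoc], h3]
      simpa [mul_assoc] using h5
    simp only [leaves, List.any_eq_true, Bool.not_eq_true', List.contains_eq_mem,
      decide_eq_false_iff_not] at hm
    obtain ⟨y, hy, hne⟩ := hm
    have hof := fOrbs_ok
    simp only [List.all_eq_true, Bool.and_eq_true, Nat.blt_eq, List.contains_eq_mem,
      decide_eq_true_eq] at hof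
    have h6 := orbit_mem (gens := fRoots) (by decide) (hof O hO) hz y hy
    rw [imgPt_word _ hwok (hof O hO y hy).1] at h6
    exact hne h6
  obtain ⟨rfl, rfl, rfl, rfl⟩ := hbad
  refine centre_R2 ?_ hc hu
  rw [hqL, hLv, show N = [] from line_len.2, Dce.val_nil]
  simpa [te_eq] using hρ

end Cfsg.Agent.Lib.CosetEnum.LyRep.Out
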